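import Groth.Prelude.Def_FEt
import Groth.Agent.FEtFF.HenselPair

/-!
Finite étale covers of affine schemes: equivalence from algebras.
-/

set_option autoImplicit false
set_option linter.style.haveILetI false
set_option backward.isDefEq.respectTransparency.types false
set_option backward.isDefEq.respectTransparency false
universe u

open CategoryTheory CategoryTheory.Limits AlgebraicGeometry TensorProduct

namespace Groth.Agent.Elkik5.FEtAffine

open Groth.Agent.FEtFF.HenselPair

variable {L Q : Type u} [CommRing L] [CommRing Q] [Algebra L Q]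

local notation "i₀" => Spec.map (CommRingCat.ofHom (algebraMap L Q))

theorem isPullback_tensor (D : Type u) [CommRing D] [Algebra L D] :
    IsPullback (Spec.map (CommRingCat.ofHom (Algebra.TensorProduct.includeLeftRingHom : D →+* D ⊗[L] Q)))
      (Spec.map (CommRingCat.ofHom
        (Algebra.TensorProduct.includeRight : Q →ₐ[L] D ⊗[L] Q).toRingHom))
      (Spec.map (CommRingCat.ofHom (algebraMap L D))) i₀ :=
  isPullback_SpecMap_of_isPushout _ _ _ _ (CommRingCat.isPushout_tensorProduct L D Q)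

variable (hbij : ∀ (D C : Type u) [CommRing D] [CommRing C] [Algebra L D] [Algebra L C]
    [Module.Finite L D] [Algebra.Etale L D] [Module.Finite L C] [Algebra.Etale L C],
    Function.Bijective fun φ : D →ₐ[L] C => Algebra.TensorProduct.map (AlgHom.id Q Q) φ)
include hbij

theorem bijective_includeLeft (D C : Type u) [CommRing D] [CommRing C] [Algebra L D] [Algebra L C]
    [Module.Finite L D] [Algebra.Etale L D] [Module.Finite L C] [Algebra.Etale L C] :
    Function.Bijective fun φ : D →ₐ[L] C =>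
      (Algebra.TensorProduct.includeLeft (R := L) (S := L) (B := Q)).comp φ := by
  have h := hbij D C
  constructor
  · intro φ ψ he
    refine h.1 (Algebra.TensorProduct.ext' fun q d => ?_)
    simp only [Algebra.TensorProduct.map_tmul, AlgHom.id_apply]
    have h1 := congrArg (Algebra.TensorProduct.comm L C Q) (congr($he d))
    simp only [AlgHom.comp_apply, Algebra.TensorProduct.includeLeft_apply,
      Algebra.TensorProduct.comm_tmul] at h1
    calc q ⊗ₜ[L] φ d = q • ((1 : Q) ⊗ₜ[L] φ d) := by rw [TensorProduct.smul_tmul', smul_eq_mul, mul_one]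
      _ = q • ((1 : Q) ⊗ₜ[L] ψ d) := by rw [h1]
      _ = q ⊗ₜ[L] ψ d := by rw [TensorProduct.smul_tmul', smul_eq_mul, mul_one]
  · intro σ
    obtain ⟨φ, hφ⟩ := h.2 (Algebra.TensorProduct.lift (Algebra.ofId Q (Q ⊗[L] C))
      ((Algebra.TensorProduct.comm L C Q).toAlgHom.comp σ) fun _ _ => Commute.all _ _)
    refine ⟨φ, AlgHom.ext fun d => (Algebra.TensorProduct.comm L C Q).injective ?_⟩
    simpa [← Algebra.TensorProduct.one_def] using congr($hφ (1 ⊗ₜ[L] d))

/-- Morphisms of covers are those of the base change. -/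
theorem existsUnique_extension (Y Y' : FEt.Cat (Spec (CommRingCat.of L)))
    (g : pullback Y.hom i₀ ⟶ Y'.left) (hg : g ≫ Y'.hom = pullback.fst _ _ ≫ Y.hom) :
    ∃! f : Y.left ⟶ Y'.left, f ≫ Y'.hom = Y.hom ∧ pullback.fst Y.hom i₀ ≫ f = g := by
  obtain ⟨B, _, _, _, _, eB, heB⟩ := exists_affine_form Y
  obtain ⟨C, _, _, _, _, eC, heC⟩ := exists_affine_form Y'
  let j := Spec.map (CommRingCat.ofHom (Algebra.TensorProduct.includeLeftRingHom : B →+* B ⊗[L] Q))
  have sqY : IsPullback (j ≫ eB.inv) (Spec.map (CommRingCat.ofHom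
      (Algebra.TensorProduct.includeRight : Q →ₐ[L] B ⊗[L] Q).toRingHom)) Y.hom i₀ :=
    (isPullback_tensor (Q := Q) B).of_iso (Iso.refl _) eB.symm (Iso.refl _) (Iso.refl _) (by simp [j]) (by simp)
      (by simp [← heB]) (by simp)
  have hE : sqY.isoPullback.hom ≫ pullback.fst _ _ = j ≫ eB.inv := sqY.isoPullback_hom_fst
  let g₁ : Spec (CommRingCat.of (B ⊗[L] Q)) ⟶ Spec (CommRingCat.of C) :=
    sqY.isoPullback.hom ≫ g ≫ eC.hom
  let σ₀ := Spec.preimage g₁
  have hσ₀ : Spec.map σ₀ = g₁ := Spec.map_preimage _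
  have hσc : CommRingCat.ofHom (algebraMap L C) ≫ σ₀ =
      CommRingCat.ofHom (algebraMap L B) ≫
        CommRingCat.ofHom (Algebra.TensorProduct.includeLeftRingHom : B →+* B ⊗[L] Q) := by
    apply Spec.map_injective
    rw [Spec.map_comp, Spec.map_comp, hσ₀]
    simp only [g₁, Category.assoc]
    rw [heC, hg, reassoc_of% hE, ← heB, Iso.inv_hom_id_assoc]
  let σ : C →ₐ[L] B ⊗[L] Q :=
    { σ₀.hom with commutes' := fun a => congrArg (fun φ => φ.hom a) hσc }
  obtain ⟨τ, hτ, huniq⟩ :=
    Function.bijective_iff_existsUnique _ |>.1 (bijective_includeLeft hbij C B) σ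
  have hτ' : CommRingCat.ofHom τ.toRingHom ≫
      CommRingCat.ofHom (Algebra.TensorProduct.includeLeftRingHom : B →+* B ⊗[L] Q) = σ₀ :=
    CommRingCat.hom_ext (RingHom.ext fun c => congr($hτ c))
  refine ⟨eB.hom ≫ Spec.map (CommRingCat.ofHom τ.toRingHom) ≫ eC.inv, ⟨?_, ?_⟩, fun f ⟨hf1, hf2⟩ => ?_⟩
  · rw [← heC, Category.assoc, Category.assoc, eC.inv_hom_id_assoc, ← Spec.map_comp, ← heB]
    congr 2
    exact CommRingCat.hom_ext τ.comp_algebraMap
  · rw [← cancel_epi sqY.isoPullback.hom, reassoc_of% hE, eB.inv_hom_id_assoc, ← Category.assoc,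
      ← Spec.map_comp, hτ', hσ₀]
    simp [g₁]
  · let f₁ := eB.inv ≫ f ≫ eC.hom
    let τ₀ := Spec.preimage f₁
    have hτ₀ : Spec.map τ₀ = f₁ := Spec.map_preimage _
    have hc : CommRingCat.ofHom (algebraMap L C) ≫ τ₀ = CommRingCat.ofHom (algebraMap L B) := by
      apply Spec.map_injective
      rw [Spec.map_comp, hτ₀]
      simp only [f₁, Category.assoc]
      rw [heC, hf1, ← heB, Iso.inv_hom_id_assoc]
    let τ₁ : C →ₐ[L] B := { τ₀.hom with commutes' := fun a => congrArg (fun φ => φ.hom a) hc }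
    have h1 : τ₁ = τ := huniq τ₁ (AlgHom.ext fun c => by
      have : τ₀ ≫ CommRingCat.ofHom (Algebra.TensorProduct.includeLeftRingHom : B →+* B ⊗[L] Q) = σ₀ := by
        apply Spec.map_injective
        rw [Spec.map_comp, hτ₀, hσ₀]
        simp only [f₁, g₁]
        rw [← hf2, Category.assoc, reassoc_of% hE]
      exact congrArg (fun φ => φ.hom c) this)
    have h2 : τ₀ = CommRingCat.ofHom τ.toRingHom := CommRingCat.hom_ext (RingHom.ext fun c => congr($h1 c))
    rw [← h2, hτ₀]
    simp [f₁]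

variable (hess : ∀ (C : Type u) [CommRing C] [Algebra Q C] [Module.Finite Q C] [Algebra.Etale Q C],
    ∃ (D : Type u) (_ : CommRing D) (_ : Algebra L D), Module.Finite L D ∧ Algebra.Etale L D ∧
      Nonempty ((Q ⊗[L] D) ≃ₐ[Q] C))
include hess

/-- The equivalence. -/
theorem restrict_isEquivalence : (FEt.restrict i₀).IsEquivalence := by
  let i := i₀
  have hfst : ∀ {Y Y' : FEt.Cat (Spec (CommRingCat.of L))} (φ : Y ⟶ Y'),
      ((FEt.restrict i).map φ).left ≫ pullback.fst Y'.hom i = pullback.fst Y.hom i ≫ φ.left :=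
    fun φ => pullback.lift_fst _ _ _
  have : (FEt.restrict i).Faithful := ⟨fun {Y Y'} φ φ' h => by
    obtain ⟨f, -, hu⟩ := existsUnique_extension hbij Y Y' (pullback.fst Y.hom i ≫ φ.left)
      (by rw [Category.assoc]; exact congrArg (_ ≫ ·) (Over.w φ.hom))
    refine MorphismProperty.Over.Hom.ext ?_
    refine (hu _ ⟨Over.w φ.hom, rfl⟩).trans (hu _ ⟨Over.w φ'.hom, ?_⟩).symm
    rw [← hfst, ← hfst, h]⟩
  have : (FEt.restrict i).Full := ⟨fun {Y Y'} ψ => by
    obtain ⟨f, ⟨hf1, hf2⟩, -⟩ := existsUnique_extension hbij Y Y' (ψ.left ≫ pullback.fst Y'.hom i)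
      (by
        rw [Category.assoc, pullback.condition, ← Category.assoc]
        exact (congrArg (· ≫ i) (Over.w ψ.hom)).trans pullback.condition.symm)
    refine ⟨MorphismProperty.Over.homMk f hf1, MorphismProperty.Over.Hom.ext (pullback.hom_ext ?_ ?_)⟩
    · rw [hfst]; exact hf2
    · exact (pullback.lift_snd _ _ _).trans (Over.w ψ.hom).symm⟩
  have : (FEt.restrict i).EssSurj := ⟨fun Z => by
    obtain ⟨C, _, _, _, _, eC, heC⟩ := exists_affine_form Z
    obtain ⟨D, _, _, _, _, ⟨θ⟩⟩ := hess C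
    let b := Spec.map (CommRingCat.ofHom (algebraMap L D))
    have hfin : IsFinite b := (IsFinite.SpecMap_iff _).2 (RingHom.finite_algebraMap.2 ‹_›)
    have het : Etale b := (HasRingHomProperty.Spec_iff (P := @Etale)).2 (RingHom.etale_algebraMap.2 ‹_›)
    let δ : CommRingCat.of C ≅ CommRingCat.of (D ⊗[L] Q) :=
      (θ.symm.toRingEquiv.trans (Algebra.TensorProduct.comm L Q D).toRingEquiv).toCommRingCatIso
    refine ⟨MorphismProperty.Over.mk ⊤ b ⟨hfin, het⟩, ⟨MorphismProperty.Over.isoMk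
      ((pullbackSpecIso L D Q) ≪≫ Scheme.Spec.mapIso δ.op ≪≫ eC.symm) ?_⟩⟩
    show ((pullbackSpecIso L D Q).hom ≫ Spec.map δ.hom ≫ eC.inv) ≫ Z.hom = pullback.snd b i
    rw [← heC, Category.assoc, Category.assoc, eC.inv_hom_id_assoc, ← Spec.map_comp,
      ← Iso.eq_inv_comp]
    refine Eq.trans ?_ (pullbackSpecIso_inv_snd L D Q).symm
    congr 1
    ext q
    show Algebra.TensorProduct.comm L Q D (θ.symm (algebraMap Q C q)) = _
    rw [θ.symm.commutes]
    rfl⟩
  exact { }

end Groth.Agent.Elkik5.FEtAffine
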