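import Mathlib
import Groth.Agent.HenselLib.Lift

/-!
Germs of convergent sequences in `B[1/t]` as a henselian pair over the completed ring.
-/

set_option autoImplicit false
set_option linter.unusedSectionVars false
set_option linter.style.haveILetI false

universe u

namespace Groth.Agent.Elkik5

open Filter

section Ball

variable {B L : Type u} [CommRing B] [CommRing L] (t : B) (ι : B →+* L)

/-- The neighbourhood `t ^ m B` of zero in `B[1/t]`. -/
def ball (m : ℕ) : Set L := {x | ∃ b : B, x = ι (t ^ m * b)}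

variable {t ι}

theorem zero_mem_ball (m : ℕ) : (0 : L) ∈ ball t ι m := ⟨0, by simp⟩

theorem ball_add {m : ℕ} {x y : L} (hx : x ∈ ball t ι m) (hy : y ∈ ball t ι m) : x + y ∈ ball t ι m := by
  obtain ⟨a, rfl⟩ := hx
  obtain ⟨b, rfl⟩ := hy
  exact ⟨a + b, by rw [← map_add, mul_add]⟩

theorem ball_neg {m : ℕ} {x : L} (hx : x ∈ ball t ι m) : -x ∈ ball t ι m := by
  obtain ⟨a, rfl⟩ := hx
  exact ⟨-a, by rw [← map_neg, mul_neg]⟩

theorem ball_sub {m : ℕ} {x y : L} (hx : x ∈ ball t ι m) (hy : y ∈ ball t ι m) : x - y ∈ ball t ι m := by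
  rw [sub_eq_add_neg]; exact ball_add hx (ball_neg hy)

theorem ball_mul {m n : ℕ} {x y : L} (hx : x ∈ ball t ι m) (hy : y ∈ ball t ι n) :
    x * y ∈ ball t ι (m + n) := by
  obtain ⟨a, rfl⟩ := hx
  obtain ⟨b, rfl⟩ := hy
  exact ⟨a * b, by rw [← map_mul, pow_add]; congr 1; ring⟩

theorem ball_mono {m n : ℕ} (h : m ≤ n) {x : L} (hx : x ∈ ball t ι n) : x ∈ ball t ι m := by
  obtain ⟨a, rfl⟩ := hx
  exact ⟨t ^ (n - m) * a, by rw [← mul_assoc, ← pow_add, Nat.add_sub_cancel' h]⟩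

theorem ball_sum {α : Type*} {m : ℕ} {s : Finset α} {x : α → L} (h : ∀ i ∈ s, x i ∈ ball t ι m) :
    ∑ i ∈ s, x i ∈ ball t ι m :=
  Finset.sum_induction x (· ∈ ball t ι m) (fun _ _ => ball_add) (zero_mem_ball m) h

theorem pow_mem_ball (m i : ℕ) {x : L} (hx : x ∈ ball t ι m) : x ^ i ∈ ball t ι (i * m) := by
  obtain ⟨a, rfl⟩ := hx
  exact ⟨a ^ i, by rw [← map_pow, mul_pow, ← pow_mul, mul_comm i m]⟩

theorem isUnit_one_add (hj : Ideal.span {t} ≤ (⊥ : Ideal B).jacobson) {x : L} (hx : x ∈ ball t ι 1) :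
    ∃ v ∈ ball t ι 0, (1 + x) * v = 1 := by
  obtain ⟨b, rfl⟩ := hx
  have hu : IsUnit (t * b + 1) :=
    Ideal.mem_jacobson_bot.mp (hj (Ideal.mem_span_singleton_self t)) b
  obtain ⟨u, hu⟩ := hu.exists_right_inv
  refine ⟨ι u, ⟨u, by simp⟩, ?_⟩
  rw [pow_one, ← map_one ι, ← map_add, ← map_mul, add_comm, hu]

end Ball

variable {B B' L Q : Type u} [CommRing B] [CommRing B'] [CommRing L] [CommRing Q]

/-- `Q = B'[1/t']` is the completion of `L = B[1/t]` for the `t`-adic topology. -/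
structure Dense (t : B) (ι : B →+* L) (t' : B') (ι' : B' →+* Q) (f : L →+* Q) : Prop where
  unit : IsUnit (ι t)
  clear : ∀ z : L, ∃ (k : ℕ) (b : B), z * ι t ^ k = ι b
  clear' : ∀ z : Q, ∃ (k : ℕ) (b : B'), z * ι' t' ^ k = ι' b
  map_t : f (ι t) = ι' t'
  map_ball : ∀ b : B, f (ι b) ∈ ball t' ι' 0
  reflect : ∃ N : ℕ, ∀ (m : ℕ) (x : L), f x ∈ ball t' ι' (m + N) → x ∈ ball t ι m
  dense : ∀ (a : Q) (m : ℕ), ∃ x : L, f x - a ∈ ball t' ι' m
  sep : ∀ a : Q, (∀ m, a ∈ ball t' ι' m) → a = 0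
  henselian : HenselianRing B (Ideal.span {t})

namespace Dense

variable {t : B} {ι : B →+* L} {t' : B'} {ι' : B' →+* Q} {f : L →+* Q}

/-- Convergence. -/
def Tends (_ : Dense t ι t' ι' f) (x : ℕ → L) (a : Q) : Prop :=
  ∀ m, ∀ᶠ k in atTop, f (x k) - a ∈ ball t' ι' m

variable (h : Dense t ι t' ι' f)
include h

theorem bound' (a : Q) : ∃ j, ∀ m, ∀ x ∈ ball t' ι' (m + j), a * x ∈ ball t' ι' m := by
  obtain ⟨j, b, hb⟩ := h.clear' a
  refine ⟨j, fun m x hx => ?_⟩
  obtain ⟨c, rfl⟩ := hx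
  refine ⟨b * c, ?_⟩
  rw [show t' ^ (m + j) * c = t' ^ j * (t' ^ m * c) by ring, map_mul, map_pow, ← mul_assoc, hb,
    ← map_mul]
  congr 1; ring

theorem tends_congr {x y : ℕ → L} (hxy : x =ᶠ[atTop] y) {a : Q} (hx : h.Tends x a) : h.Tends y a :=
  fun m => by
    filter_upwards [hxy, hx m] with k h1 h2
    rw [← h1]; exact h2

theorem tends_const (z : L) : h.Tends (fun _ => z) (f z) :=
  fun m => Eventually.of_forall fun _ => by rw [sub_self]; exact zero_mem_ball m

theorem tends_unique {x : ℕ → L} {a a' : Q} (h1 : h.Tends x a) (h2 : h.Tends x a') : a = a' := by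
  refine sub_eq_zero.mp (h.sep _ fun m => ?_)
  obtain ⟨k, hk, hk'⟩ := ((h1 m).and (h2 m)).exists
  have := ball_sub hk' hk
  rwa [sub_sub_sub_cancel_left] at this

theorem tends_add {x y : ℕ → L} {a b : Q} (hx : h.Tends x a) (hy : h.Tends y b) :
    h.Tends (x + y) (a + b) := fun m => by
  filter_upwards [hx m, hy m] with k h1 h2
  rw [Pi.add_apply, map_add, add_sub_add_comm]
  exact ball_add h1 h2

theorem tends_neg {x : ℕ → L} {a : Q} (hx : h.Tends x a) : h.Tends (-x) (-a) := fun m => by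
  filter_upwards [hx m] with k h1
  rw [Pi.neg_apply, map_neg, ← neg_sub']
  exact ball_neg h1

theorem tends_mul {x y : ℕ → L} {a b : Q} (hx : h.Tends x a) (hy : h.Tends y b) :
    h.Tends (x * y) (a * b) := fun m => by
  obtain ⟨i, hi⟩ := h.bound' a
  obtain ⟨j, hj⟩ := h.bound' b
  filter_upwards [hx (m + j), hy (m + i), hx m, hy m] with k h1 h2 h3 h4
  rw [Pi.mul_apply, map_mul, show f (x k) * f (y k) - a * b =
    b * (f (x k) - a) + a * (f (y k) - b) + (f (x k) - a) * (f (y k) - b) by ring]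
  exact ball_add (ball_add (hj m _ h1) (hi m _ h2))
    (ball_mono (Nat.le_add_right m m) (ball_mul h3 h4))

theorem eventually_bdd {x : ℕ → L} {a : Q} (hx : h.Tends x a) :
    ∃ j, ∀ᶠ k in atTop, x k * ι t ^ j ∈ ball t ι 0 := by
  obtain ⟨N, hN⟩ := h.reflect
  obtain ⟨j, b, hb⟩ := h.clear' a
  refine ⟨j + N, ?_⟩
  filter_upwards [hx 0] with k hk
  refine hN 0 _ ?_
  obtain ⟨c, hc⟩ := hk
  refine ⟨b + t' ^ j * c, ?_⟩
  rw [map_mul, map_pow, h.map_t, zero_add, eq_add_of_sub_eq hc]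
  simp only [pow_zero, one_mul, map_mul, map_add, map_pow, ← hb, pow_add]
  ring

theorem eventually_small {x : ℕ → L} (hx : h.Tends x 0) (m : ℕ) :
    ∀ᶠ k in atTop, x k ∈ ball t ι m := by
  obtain ⟨N, hN⟩ := h.reflect
  filter_upwards [hx (m + N)] with k hk
  rw [sub_zero] at hk
  exact hN m _ hk

theorem tends_zero_of_small {x : ℕ → L} (hx : ∀ m, ∀ᶠ k in atTop, x k ∈ ball t ι m) :
    h.Tends x 0 := fun m => by
  filter_upwards [hx m] with k hk
  obtain ⟨b, hb⟩ := hk
  rw [sub_zero, hb, map_mul, map_mul, map_pow, map_pow, h.map_t]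
  obtain ⟨c, hc⟩ := h.map_ball b
  exact ⟨c, by rw [hc, pow_zero, one_mul, map_mul, map_pow]⟩

/-- Germs of convergent sequences. -/
noncomputable def conv : Subring (Germ (atTop : Filter ℕ) L) where
  carrier := {g | ∃ (x : ℕ → L) (a : Q), g = ↑x ∧ h.Tends x a}
  zero_mem' := ⟨_, f 0, rfl, h.tends_const 0⟩
  one_mem' := ⟨_, f 1, rfl, h.tends_const 1⟩
  add_mem' := by
    rintro _ _ ⟨x, a, rfl, hx⟩ ⟨y, b, rfl, hy⟩
    exact ⟨x + y, a + b, rfl, h.tends_add hx hy⟩
  mul_mem' := by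
    rintro _ _ ⟨x, a, rfl, hx⟩ ⟨y, b, rfl, hy⟩
    exact ⟨x * y, a * b, rfl, h.tends_mul hx hy⟩
  neg_mem' := by
    rintro _ ⟨x, a, rfl, hx⟩
    exact ⟨-x, -a, rfl, h.tends_neg hx⟩

theorem exists_rep (g : h.conv) :
    ∃ p : (ℕ → L) × Q, (g : Germ (atTop : Filter ℕ) L) = ↑p.1 ∧ h.Tends p.1 p.2 := by
  obtain ⟨x, a, h1, h2⟩ := g.2
  exact ⟨(x, a), h1, h2⟩

theorem rep_limit_eq {g : h.conv} {x : ℕ → L} {a : Q} (hg : (g : Germ (atTop : Filter ℕ) L) = ↑x)
    (hx : h.Tends x a) : (h.exists_rep g).choose.2 = a :=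
  h.tends_unique (h.tends_congr (Germ.coe_eq.mp ((h.exists_rep g).choose_spec.1.symm.trans hg))
    (h.exists_rep g).choose_spec.2) hx

/-- The limit. -/
noncomputable def lim : h.conv →+* Q where
  toFun g := (h.exists_rep g).choose.2
  map_one' := h.rep_limit_eq (g := 1) rfl (by simpa using h.tends_const 1)
  map_zero' := h.rep_limit_eq (g := 0) rfl (by simpa using h.tends_const 0)
  map_add' g g' := by
    obtain ⟨hx, hx'⟩ := (h.exists_rep g).choose_spec
    obtain ⟨hy, hy'⟩ := (h.exists_rep g').choose_spec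
    refine h.rep_limit_eq ?_ (h.tends_add hx' hy')
    exact (congrArg₂ (· + ·) hx hy).trans rfl
  map_mul' g g' := by
    obtain ⟨hx, hx'⟩ := (h.exists_rep g).choose_spec
    obtain ⟨hy, hy'⟩ := (h.exists_rep g').choose_spec
    refine h.rep_limit_eq ?_ (h.tends_mul hx' hy')
    exact (congrArg₂ (· * ·) hx hy).trans rfl

/-- Constant sequences. -/
noncomputable def const : L →+* h.conv where
  toFun z := ⟨↑(fun _ : ℕ => z), _, f z, rfl, h.tends_const z⟩
  map_one' := rfl
  map_zero' := rfl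
  map_add' _ _ := rfl
  map_mul' _ _ := rfl

theorem lim_const (z : L) : h.lim (h.const z) = f z := h.rep_limit_eq rfl (h.tends_const z)

theorem lim_surjective : Function.Surjective h.lim := by
  intro a
  choose x hx using fun k => h.dense a k
  have hx' : h.Tends x a := fun m => by
    filter_upwards [eventually_ge_atTop m] with k hk
    exact ball_mono hk (hx k)
  exact ⟨⟨↑x, x, a, rfl, hx'⟩, h.rep_limit_eq rfl hx'⟩

theorem exists_small_root {D : ℕ} (y : ℕ → L) (j s : ℕ) (hs : j < s)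
    (h0 : y 0 ∈ ball t ι (s + 1)) (h1 : y 1 - 1 ∈ ball t ι 1)
    (hy : ∀ i ∈ Finset.Ico 2 D, y i * ι t ^ j ∈ ball t ι 0) :
    ∃ w ∈ ball t ι s, y 0 + y 1 * w + ∑ i ∈ Finset.Ico 2 D, y i * w ^ i = 0 := by
  classical
  haveI := h.henselian
  obtain ⟨γ, hγ⟩ := h0
  obtain ⟨δ, hδ⟩ := h1
  have hb : ∀ i : ℕ, ∃ b : B, i ∈ Finset.Ico 2 D → y i * ι t ^ j = ι b := fun i => by
    by_cases hi : i ∈ Finset.Ico 2 D
    · obtain ⟨b, hb⟩ := hy i hi
      exact ⟨b, fun _ => by rw [hb, pow_zero, one_mul]⟩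
    · exact ⟨0, fun h' => absurd h' hi⟩
  choose b hb using hb
  open MvPolynomial in
  let G : MvPolynomial (Fin 1) B := C (t * γ) + C (1 + t * δ) * X 0 +
    ∑ i ∈ Finset.Ico 2 D, C (t * (b i * t ^ (i * s - j - s - 1))) * X 0 ^ i
  have ht0 : Ideal.Quotient.mk (Ideal.span {t}) t = 0 := Ideal.Quotient.mk_singleton_self t
  obtain ⟨z, hz, -⟩ := HenselLib.exists_root_system (Ideal.span {t}) (fun _ : Fin 1 => G)
    (fun _ => 0) (fun _ => by
      rw [← Ideal.Quotient.eq_zero_iff_mem]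
      simp [G, ht0]) (by
      rw [Matrix.det_fin_one, Matrix.of_apply]
      have : Ideal.Quotient.mk (Ideal.span {t})
          (MvPolynomial.eval (fun _ => (0 : B)) (MvPolynomial.pderiv 0 G)) = 1 := by
        simp [G, ht0, MvPolynomial.pderiv_X]
      rw [this]; exact isUnit_one)
  refine ⟨ι (t ^ s * z 0), ⟨z 0, rfl⟩, ?_⟩
  have hterm : ∀ i ∈ Finset.Ico 2 D, y i * ι (t ^ s * z 0) ^ i =
      ι (t ^ s * (t * (b i * t ^ (i * s - j - s - 1)) * z 0 ^ i)) := by
    intro i hi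
    have hi2 : 2 ≤ i := (Finset.mem_Ico.mp hi).1
    have hle : j + s + 1 ≤ i * s := le_trans (by lia) (Nat.mul_le_mul_right s hi2)
    have hsplit : t ^ (i * s) = t ^ j * (t ^ s * t * t ^ (i * s - j - s - 1)) := by
      rw [← pow_succ, ← pow_add, ← pow_add]; congr 1; lia
    rw [← map_pow, mul_pow, ← pow_mul, mul_comm s i, hsplit,
      show t ^ j * (t ^ s * t * t ^ (i * s - j - s - 1)) * z 0 ^ i =
        t ^ j * (t ^ s * t * t ^ (i * s - j - s - 1) * z 0 ^ i) by ring,
      map_mul, map_pow, ← mul_assoc, hb i hi, ← map_mul]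
    congr 1; ring
  rw [hγ, eq_add_of_sub_eq hδ, Finset.sum_congr rfl hterm, ← map_sum, ← Finset.mul_sum,
    pow_one, ← map_one ι, ← map_add, ← map_mul, ← map_add, ← map_add]
  have hz0 := hz 0
  simp only [G, map_add, map_mul, map_pow, map_sum, MvPolynomial.eval_C, MvPolynomial.eval_X] at hz0
  rw [show t ^ (s + 1) * γ + (t * δ + 1) * (t ^ s * z 0) +
      t ^ s * ∑ i ∈ Finset.Ico 2 D, t * (b i * t ^ (i * s - j - s - 1)) * z 0 ^ i =
    t ^ s * (t * γ + (1 + t * δ) * z 0 +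
      ∑ i ∈ Finset.Ico 2 D, t * (b i * t ^ (i * s - j - s - 1)) * z 0 ^ i) by ring, hz0, mul_zero,
    map_zero]

theorem small_root_unique {D : ℕ} (y : ℕ → L) (j : ℕ) (h1 : y 1 - 1 ∈ ball t ι 1)
    (hy : ∀ i ∈ Finset.Ico 2 D, y i * ι t ^ j ∈ ball t ι 0) {w w' : L}
    (hw : w ∈ ball t ι (j + 1)) (hw' : w' ∈ ball t ι (j + 1))
    (e : y 0 + y 1 * w + ∑ i ∈ Finset.Ico 2 D, y i * w ^ i = 0)
    (e' : y 0 + y 1 * w' + ∑ i ∈ Finset.Ico 2 D, y i * w' ^ i = 0) : w = w' := by
  set S : L := ∑ i ∈ Finset.Ico 2 D, y i * ∑ k ∈ Finset.range i, w ^ k * w' ^ (i - 1 - k)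
  have hS : S ∈ ball t ι 1 := by
    refine ball_sum fun i hi => ?_
    have hi2 : 2 ≤ i := (Finset.mem_Ico.mp hi).1
    have h2 : ∑ k ∈ Finset.range i, w ^ k * w' ^ (i - 1 - k) ∈ ball t ι (j + 1) := by
      refine ball_sum fun k hk => ?_
      have := ball_mul (pow_mem_ball _ k hw) (pow_mem_ball _ (i - 1 - k) hw')
      refine ball_mono ?_ this
      rw [← Nat.add_mul]
      have := Finset.mem_range.mp hk
      exact Nat.le_mul_of_pos_left _ (by lia)
    obtain ⟨c, hc⟩ := h2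
    obtain ⟨d, hd⟩ := hy i hi
    refine ⟨d * c, ?_⟩
    rw [hc, show t ^ (j + 1) * c = t ^ j * (t * c) by ring, map_mul, map_pow, ← mul_assoc, hd,
      pow_zero, one_mul, ← map_mul, pow_one]
    congr 1; ring
  obtain ⟨v, -, hv⟩ := isUnit_one_add h.henselian.jac (ball_add h1 hS)
  have h3 : (w - w') * (1 + (y 1 - 1 + S)) = 0 := by
    have h4 : (w - w') * S = ∑ i ∈ Finset.Ico 2 D, (y i * w ^ i - y i * w' ^ i) := by
      rw [Finset.mul_sum]
      refine Finset.sum_congr rfl fun i _ => ?_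
      rw [mul_left_comm, mul_comm (w - w'), geom_sum₂_mul, mul_sub]
    rw [show (w - w') * (1 + (y 1 - 1 + S)) = y 1 * (w - w') + (w - w') * S by ring, h4,
      Finset.sum_sub_distrib]
    linear_combination e - e'
  rw [← sub_eq_zero, ← mul_one (w - w'), ← hv, ← mul_assoc, h3, zero_mul]

/-- The germs of convergent sequences are henselian along the null sequences. -/
theorem henselianRing_conv : HenselianRing h.conv (RingHom.ker h.lim) := by
  classical
  refine ⟨fun g hg => Ideal.mem_jacobson_bot.mpr fun r => ?_, ?_⟩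
  · obtain ⟨⟨x, a⟩, hx, hxa⟩ := h.exists_rep (g * r)
    have ha : a = 0 := by
      have := h.rep_limit_eq hx hxa
      rw [show (h.exists_rep (g * r)).choose.2 = h.lim (g * r) from rfl, map_mul,
        RingHom.mem_ker.mp hg, zero_mul] at this
      exact this.symm
    subst ha
    dsimp only at hxa hx
    have hex : ∀ k, ∃ v : L, x k ∈ ball t ι 1 → v ∈ ball t ι 0 ∧ (1 + x k) * v = 1 := fun k => by
      by_cases hk : x k ∈ ball t ι 1
      · obtain ⟨v, hv, hv'⟩ := isUnit_one_add h.henselian.jac hk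
        exact ⟨v, fun _ => ⟨hv, hv'⟩⟩
      · exact ⟨0, fun h' => absurd h' hk⟩
    choose v hv using hex
    have h1 := h.eventually_small hxa 1
    have hv1 : h.Tends v (f 1) := by
      have h2 : h.Tends (fun k => v k - 1) 0 := by
        refine h.tends_zero_of_small fun m => ?_
        filter_upwards [h.eventually_small hxa m, h1] with k hk hk1
        obtain ⟨hv0, hv'⟩ := hv k hk1
        rw [show v k - 1 = -(x k * v k) by linear_combination hv']
        exact ball_neg (ball_mono le_rfl (by simpa using ball_mul hk hv0))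
      have := h.tends_add h2 (h.tends_const 1)
      rw [zero_add] at this
      exact h.tends_congr (Eventually.of_forall fun k => by simp) this
    refine IsUnit.of_mul_eq_one (a := g * r + 1) ⟨↑v, v, f 1, rfl, hv1⟩ (Subtype.ext ?_)
    rw [Subring.coe_mul, Subring.coe_add, hx, Subring.coe_one]
    refine Germ.coe_eq.mpr ?_
    filter_upwards [h1] with k hk
    show (x k + 1) * v k = 1
    rw [add_comm]
    exact (hv k hk).2
  intro p hp a₀ ha₀ hu
  obtain ⟨v, hv⟩ := hu.exists_right_inv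
  obtain ⟨v, rfl⟩ := Ideal.Quotient.mk_surjective v
  have hv1 : h.lim (p.derivative.eval a₀ * v) = 1 := by
    rw [← map_mul, ← map_one (Ideal.Quotient.mk _), Ideal.Quotient.eq, RingHom.mem_ker, map_sub,
      map_one, sub_eq_zero] at hv
    exact hv
  set q := p.comp (Polynomial.C a₀ + Polynomial.C v * Polynomial.X) with hq
  set D := q.natDegree + 2 with hD
  have hq0 : q.coeff 0 = p.eval a₀ := by
    rw [hq, Polynomial.coeff_zero_eq_eval_zero, Polynomial.eval_comp]; simp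
  have hq1 : q.coeff 1 = p.derivative.eval a₀ * v := by
    have h1 := congrArg (Polynomial.eval 0) (Polynomial.derivative_comp p
      (Polynomial.C a₀ + Polynomial.C v * Polynomial.X))
    rw [← hq, ← Polynomial.coeff_zero_eq_eval_zero, Polynomial.coeff_derivative] at h1
    simp only [map_add, Polynomial.derivative_C, zero_add, Polynomial.derivative_mul,
      Polynomial.derivative_X, mul_one, zero_mul, Polynomial.eval_mul, Polynomial.eval_C,
      Polynomial.eval_comp, Polynomial.eval_add, Polynomial.eval_X, mul_zero, add_zero,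
      Nat.cast_zero] at h1
    rw [h1, mul_comm]
  choose c hc hca using fun i => h.exists_rep (q.coeff i)
  have hlim : ∀ i, h.lim (q.coeff i) = (c i).2 := fun i => h.rep_limit_eq (hc i) (hca i)
  have hs0 : h.Tends (c 0).1 0 := by
    have := hca 0
    rwa [← hlim, hq0, RingHom.mem_ker.mp ha₀] at this
  have hs1 : h.Tends (fun k => (c 1).1 k - 1) 0 := by
    have := h.tends_add (hca 1) (h.tends_const (-1))
    rw [← hlim, hq1, hv1, map_neg, map_one, add_neg_cancel] at this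
    exact h.tends_congr (Eventually.of_forall fun k => by simp [sub_eq_add_neg]) this
  choose J hJ using fun i => h.eventually_bdd (hca i)
  set j := (Finset.range D).sup J with hj
  have hbdd : ∀ᶠ k in atTop, ∀ i ∈ Finset.Ico 2 D, (c i).1 k * ι t ^ j ∈ ball t ι 0 := by
    rw [Finset.eventually_all]
    intro i hi
    filter_upwards [hJ i] with k hk
    have hle : J i ≤ j := Finset.le_sup (f := J) (Finset.mem_range.mpr (Finset.mem_Ico.mp hi).2)
    rw [← Nat.add_sub_cancel' hle, pow_add, ← mul_assoc]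
    obtain ⟨d, hd⟩ := hk
    exact ⟨d * t ^ (j - J i), by rw [hd, ← map_pow, ← map_mul]; congr 1; ring⟩
  let P : ℕ → L → Prop := fun k w =>
    (c 0).1 k + (c 1).1 k * w + ∑ i ∈ Finset.Ico 2 D, (c i).1 k * w ^ i = 0
  have hroot : ∀ s, j < s → ∀ᶠ k in atTop, ∃ w ∈ ball t ι s, P k w := fun s hs => by
    filter_upwards [h.eventually_small hs0 (s + 1), h.eventually_small hs1 1, hbdd] with k h0 h1 h2
    exact h.exists_small_root (fun i => (c i).1 k) j s hs h0 h1 h2
  let w : ℕ → L := fun k =>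
    if hk : ∃ w ∈ ball t ι (j + 1), P k w then hk.choose else 0
  have hwP : ∀ᶠ k in atTop, w k ∈ ball t ι (j + 1) ∧ P k (w k) := by
    filter_upwards [hroot (j + 1) (Nat.lt_succ_self j)] with k hk
    simp only [w, dif_pos hk]
    exact hk.choose_spec
  have hw0 : h.Tends w 0 := by
    refine h.tends_zero_of_small fun m => ?_
    filter_upwards [hroot (m + j + 1) (by lia), hwP, h.eventually_small hs1 1, hbdd] with k hk hk' h1 h2
    obtain ⟨w', hw', hP'⟩ := hk
    rw [h.small_root_unique (fun i => (c i).1 k) j h1 h2 hk'.1 (ball_mono (by lia) hw') hk'.2 hP']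
    exact ball_mono (by lia) hw'
  let W : h.conv := ⟨↑w, w, 0, rfl, hw0⟩
  have hW : h.lim W = 0 := h.rep_limit_eq rfl hw0
  refine ⟨a₀ + v * W, ?_, ?_⟩
  · show Polynomial.eval _ p = 0
    have h1 : q.eval W = 0 := by
      apply Subtype.ext
      rw [Polynomial.eval_eq_sum_range' (show q.natDegree < D by lia),
        Finset.range_eq_Ico, Finset.sum_eq_sum_Ico_succ_bot (show 0 < D by lia),
        Finset.sum_eq_sum_Ico_succ_bot (show 0 + 1 < D by lia)]
      push_cast
      simp only [zero_add, pow_zero, mul_one, pow_one, hc]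
      show _ + (_ + ∑ i ∈ Finset.Ico (1 + 1) D, _ * (↑w : Germ (atTop : Filter ℕ) L) ^ i) = 0
      have hsum : ∑ i ∈ Finset.Ico (1 + 1) D, ((c i).1 : Germ (atTop : Filter ℕ) L) *
          (↑w : Germ (atTop : Filter ℕ) L) ^ i =
          ((∑ i ∈ Finset.Ico (1 + 1) D, (c i).1 * w ^ i : ℕ → L) : Germ (atTop : Filter ℕ) L) := by
        rw [← Germ.coe_coeRingHom, map_sum]
        simp only [map_mul, map_pow]
      rw [hsum]
      refine Germ.coe_eq.mpr ?_
      filter_upwards [hwP] with k hk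
      have := hk.2
      simp only [Pi.add_apply, Pi.mul_apply, Finset.sum_apply, Pi.pow_apply]
      rw [← add_assoc]
      exact this
    rw [hq, Polynomial.eval_comp] at h1
    simpa using h1
  · rw [RingHom.mem_ker, add_sub_cancel_left, map_mul, hW, mul_zero]

end Dense

end Groth.Agent.Elkik5
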