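import Mathlib
import Groth.Agent.HenselLib.Unique

/-!
Finite étale presentations, lifting of roots over henselian pairs, evaluation at germs.
-/

set_option autoImplicit false
set_option linter.unusedSectionVars false
set_option linter.style.haveILetI false

universe u

namespace Groth.Agent.Elkik5

open MvPolynomial
open Filter (Eventually Germ atTop eventually_all)

/-- The algebra of a presentation. -/
abbrev Quot' {σ : Type} {S : Type u} [CommRing S] (F : σ → MvPolynomial σ S) : Type u :=
  MvPolynomial σ S ⧸ Ideal.span (Set.range F)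

variable {σ : Type} [Fintype σ] [DecidableEq σ] {τ : Type} [Fintype τ] [DecidableEq τ]
variable {S T : Type u} [CommRing S] [CommRing T]

/-- Square presentation of a finite étale algebra. -/
structure Cert (F : σ → MvPolynomial σ S) : Prop where
  jac : ∃ g, (Matrix.of fun i j => pderiv j (F i)).det * g - 1 ∈ Ideal.span (Set.range F)
  monic : ∀ j, ∃ (d : ℕ) (c : Fin d → S),
    X j ^ d + ∑ i : Fin d, C (c i) * X j ^ (i : ℕ) ∈ Ideal.span (Set.range F)

theorem map_mem_span (φ : S →+* T) {F : σ → MvPolynomial σ S} {p : MvPolynomial σ S}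
    (hp : p ∈ Ideal.span (Set.range F)) :
    map φ p ∈ Ideal.span (Set.range fun i => map φ (F i)) := by
  have := Ideal.mem_map_of_mem (map φ) hp
  rwa [Ideal.map_span, ← Set.range_comp] at this

theorem Cert.map {F : σ → MvPolynomial σ S} (hF : Cert F) (φ : S →+* T) :
    Cert fun i => MvPolynomial.map φ (F i) := by
  refine ⟨?_, fun j => ?_⟩
  · obtain ⟨g, hg⟩ := hF.jac
    refine ⟨MvPolynomial.map φ g, ?_⟩
    have := map_mem_span φ hg
    rw [map_sub, map_mul, map_one, RingHom.map_det] at this
    convert! this using 4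
    ext i k
    simp [pderiv_map]
  · obtain ⟨d, c, hc⟩ := hF.monic j
    refine ⟨d, fun i => φ (c i), ?_⟩
    have := map_mem_span φ hc
    simpa using this

theorem Cert.etale {F : σ → MvPolynomial σ S} (hF : Cert F) : Algebra.Etale S (Quot' F) := by
  obtain ⟨g, hg⟩ := hF.jac
  let P : Algebra.PreSubmersivePresentation S (Quot' F) σ σ :=
    Algebra.PreSubmersivePresentation.naive id Function.injective_id
  have hjac : IsUnit P.jacobian := by
    rw [P.jacobian_eq_jacobiMatrix_det]
    have e : P.jacobiMatrix = (Matrix.of fun i j => pderiv j (F i)).transpose := by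
      ext i j
      simp [P]
    rw [e, Matrix.det_transpose]
    refine IsUnit.of_mul_eq_one (a := _) (Ideal.Quotient.mk _ g) ?_
    show Ideal.Quotient.mk _ _ * Ideal.Quotient.mk _ g = 1
    rw [← map_mul, ← map_one (Ideal.Quotient.mk (Ideal.span (Set.range F))), Ideal.Quotient.eq]
    exact hg
  let P' : Algebra.SubmersivePresentation S (Quot' F) σ σ := { P with jacobian_isUnit := hjac }
  haveI : Algebra.IsStandardSmoothOfRelativeDimension 0 S (Quot' F) :=
    ⟨σ, σ, inferInstance, inferInstance, P', by simp [Algebra.Presentation.dimension]⟩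
  exact Algebra.Etale.iff_isStandardSmoothOfRelativeDimension_zero.mpr inferInstance

theorem Cert.finite {F : σ → MvPolynomial σ S} (hF : Cert F) : Module.Finite S (Quot' F) := by
  have hX : ∀ j, IsIntegral S (Ideal.Quotient.mk (Ideal.span (Set.range F)) (X j)) := fun j => by
    obtain ⟨d, c, hc⟩ := hF.monic j
    refine ⟨Polynomial.X ^ d + ∑ i : Fin d, Polynomial.C (c i) * Polynomial.X ^ (i : ℕ),
      Polynomial.monic_X_pow_add ?_, ?_⟩
    · refine lt_of_le_of_lt (Polynomial.degree_sum_le _ _) ?_
      refine (Finset.sup_lt_iff (WithBot.bot_lt_coe d)).mpr fun i _ => ?_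
      exact lt_of_le_of_lt (Polynomial.degree_C_mul_X_pow_le _ _) (WithBot.coe_lt_coe.mpr i.2)
    · rw [Polynomial.eval₂_add, Polynomial.eval₂_X_pow, Polynomial.eval₂_finsetSum]
      have := Ideal.Quotient.eq_zero_iff_mem.mpr hc
      simp only [map_add, map_pow, map_sum, map_mul] at this
      simp only [Polynomial.eval₂_mul, Polynomial.eval₂_C, Polynomial.eval₂_X_pow]
      exact this
  haveI : Algebra.IsIntegral S (Quot' F) := ⟨fun z => by
    obtain ⟨p, rfl⟩ := Ideal.Quotient.mk_surjective z
    induction p using MvPolynomial.induction_on with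
    | C a => exact isIntegral_algebraMap (x := a)
    | add p q hp hq => rw [map_add]; exact hp.add hq
    | mul_X p j hp => rw [map_mul]; exact hp.mul (hX j)⟩
  exact Algebra.IsIntegral.finite

theorem map_aeval (φ : S →+* T) (a : σ → MvPolynomial τ S) (p : MvPolynomial σ S) :
    map φ (aeval a p) = aeval (fun j => map φ (a j)) (map φ p) := by
  induction p using MvPolynomial.induction_on with
  | C r => simp [MvPolynomial.algebraMap_eq]
  | add p q hp hq => simp only [map_add, hp, hq]
  | mul_X p j hp => simp only [map_mul, hp, aeval_X, MvPolynomial.map_X]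

theorem mk_aeval {G : τ → MvPolynomial τ S} (a : σ → MvPolynomial τ S) (p : MvPolynomial σ S) :
    Ideal.Quotient.mk (Ideal.span (Set.range G)) (aeval a p) =
      aeval (fun j => Ideal.Quotient.mk (Ideal.span (Set.range G)) (a j)) p := by
  rw [← Ideal.Quotient.mkₐ_eq_mk S, ← AlgHom.comp_apply, comp_aeval]

section Lift

variable {Q : Type u} [CommRing Q] (ev : S →+* Q) (hev : Function.Surjective ev)
variable (G : τ → MvPolynomial τ S)

/-- Reduction of a presented algebra. -/
noncomputable def red : Quot' G →+* Quot' (fun i => map ev (G i)) :=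
  Ideal.quotientMap _ (map ev) (by
    rw [Ideal.span_le]
    rintro _ ⟨i, rfl⟩
    exact Ideal.subset_span ⟨i, rfl⟩)

include hev

theorem ker_red : RingHom.ker (red ev G) = (RingHom.ker ev).map (algebraMap S (Quot' G)) := by
  have hJ : (RingHom.ker ev).map (algebraMap S (Quot' G)) =
      ((RingHom.ker ev).map (C : S →+* MvPolynomial τ S)).map (Ideal.Quotient.mk _) := by
    rw [Ideal.map_map]; rfl
  rw [hJ, ← MvPolynomial.ker_map]
  refine le_antisymm (fun z hz => ?_) ?_
  · obtain ⟨p, rfl⟩ := Ideal.Quotient.mk_surjective z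
    rw [RingHom.mem_ker, red, Ideal.quotientMap_mk, Ideal.Quotient.eq_zero_iff_mem] at hz
    rw [show Ideal.span (Set.range fun i => map ev (G i)) =
      (Ideal.span (Set.range G)).map (map ev) by rw [Ideal.map_span, ← Set.range_comp]; rfl,
      Ideal.mem_map_iff_of_surjective _ (MvPolynomial.map_surjective ev hev)] at hz
    obtain ⟨q, hq, hqp⟩ := hz
    have h1 : Ideal.Quotient.mk (Ideal.span (Set.range G)) p = Ideal.Quotient.mk _ (p - q) := by
      rw [map_sub, Ideal.Quotient.eq_zero_iff_mem.mpr hq, sub_zero]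
    rw [h1]
    exact Ideal.mem_map_of_mem _ (by rw [RingHom.mem_ker, map_sub, hqp, sub_self])
  · rw [Ideal.map_le_iff_le_comap]
    intro p hp
    rw [Ideal.mem_comap, RingHom.mem_ker, red, Ideal.quotientMap_mk, RingHom.mem_ker.mp hp, map_zero]

variable {G} (hG : Cert G) [HenselianRing S (RingHom.ker ev)]
include hG

theorem henselian_red : HenselianRing (Quot' G) (RingHom.ker (red ev G)) := by
  haveI := hG.finite
  rw [ker_red ev hev]
  exact HenselLib.henselianRing_of_isIntegral _ _

variable {F : σ → MvPolynomial σ S} (hF : Cert F)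
include hF

theorem root_unique (a a' : σ → MvPolynomial τ S)
    (ha : ∀ i, aeval a (F i) ∈ Ideal.span (Set.range G))
    (ha' : ∀ i, aeval a' (F i) ∈ Ideal.span (Set.range G))
    (h : ∀ j, map ev (a j) - map ev (a' j) ∈ Ideal.span (Set.range fun i => map ev (G i))) (j : σ) :
    a j - a' j ∈ Ideal.span (Set.range G) := by
  haveI := hF.etale
  haveI := henselian_red ev hev hG
  have hkill : ∀ b : σ → MvPolynomial τ S, (∀ i, aeval b (F i) ∈ Ideal.span (Set.range G)) →
      ∀ p ∈ Ideal.span (Set.range F),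
        aeval (fun k => Ideal.Quotient.mk (Ideal.span (Set.range G)) (b k)) p = 0 := fun b hb p hp => by
    rw [← mk_aeval, Ideal.Quotient.eq_zero_iff_mem]
    exact (Ideal.span_le (I := (Ideal.span (Set.range G)).comap (aeval b).toRingHom)).mpr
      (by rintro _ ⟨i, rfl⟩; exact hb i) hp
  let t₁ : Quot' F →ₐ[S] Quot' G := Ideal.Quotient.liftₐ _ _ (hkill a ha)
  let t₂ : Quot' F →ₐ[S] Quot' G := Ideal.Quotient.liftₐ _ _ (hkill a' ha')
  have he : t₁ = t₂ := by
    obtain ⟨t, -, hu⟩ := HenselLib.existsUnique_lift (RingHom.ker (red ev G))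
      ((Ideal.Quotient.mkₐ S (RingHom.ker (red ev G))).comp t₁)
    refine (hu t₁ rfl).trans (hu t₂ (Ideal.Quotient.algHom_ext S (MvPolynomial.algHom_ext fun k => ?_))).symm
    show Ideal.Quotient.mk _ (aeval _ (X k)) = Ideal.Quotient.mk _ (aeval _ (X k))
    rw [aeval_X, aeval_X]
    refine (Ideal.Quotient.mk_eq_mk_iff_sub_mem _ _).mpr ?_
    rw [RingHom.mem_ker, map_sub, red, Ideal.quotientMap_mk, Ideal.quotientMap_mk, ← map_sub,
      ← neg_sub, map_neg, neg_eq_zero, Ideal.Quotient.eq_zero_iff_mem]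
    exact h k
  rw [← Ideal.Quotient.eq]
  have h2 := congr($he (Ideal.Quotient.mk _ (X j)))
  simpa [t₁, t₂] using h2

theorem exists_root (b : σ → MvPolynomial τ Q)
    (hb : ∀ i, aeval b (map ev (F i)) ∈ Ideal.span (Set.range fun k => map ev (G k))) :
    ∃ a : σ → MvPolynomial τ S, (∀ i, aeval a (F i) ∈ Ideal.span (Set.range G)) ∧
      ∀ j, map ev (a j) - b j ∈ Ideal.span (Set.range fun k => map ev (G k)) := by
  haveI := hF.etale
  haveI := henselian_red ev hev hG
  choose a₀ ha₀ using fun j => MvPolynomial.map_surjective ev hev (b j)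
  set J := RingHom.ker (red ev G)
  have hkill : ∀ p ∈ Ideal.span (Set.range F), ((Ideal.Quotient.mkₐ S J).comp
      (aeval fun k => Ideal.Quotient.mk (Ideal.span (Set.range G)) (a₀ k))) p = 0 := fun p hp => by
    refine (Ideal.span_le (I := RingHom.ker ((Ideal.Quotient.mkₐ S J).comp
      (aeval fun k => Ideal.Quotient.mk (Ideal.span (Set.range G)) (a₀ k))).toRingHom)).mpr ?_ hp
    rintro _ ⟨i, rfl⟩
    refine Ideal.Quotient.eq_zero_iff_mem.mpr ?_
    show (aeval fun k => Ideal.Quotient.mk (Ideal.span (Set.range G)) (a₀ k)) (F i) ∈ J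
    rw [← mk_aeval, RingHom.mem_ker, red, Ideal.quotientMap_mk, map_aeval,
      Ideal.Quotient.eq_zero_iff_mem]
    simp only [ha₀]
    exact hb i
  obtain ⟨t, ht, -⟩ := HenselLib.existsUnique_lift J (Ideal.Quotient.liftₐ _ _ hkill)
  choose a ha using fun j => Ideal.Quotient.mk_surjective (t (Ideal.Quotient.mk _ (X j)))
  refine ⟨a, fun i => ?_, fun j => ?_⟩
  · have e : (aeval fun k => Ideal.Quotient.mk (Ideal.span (Set.range G)) (a k)) =
        t.comp (Ideal.Quotient.mkₐ S _) := MvPolynomial.algHom_ext fun k => by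
      rw [aeval_X, ha]; rfl
    rw [← Ideal.Quotient.eq_zero_iff_mem, mk_aeval, e, AlgHom.comp_apply, Ideal.Quotient.mkₐ_eq_mk,
      Ideal.Quotient.eq_zero_iff_mem.mpr (Ideal.subset_span (s := Set.range F) ⟨i, rfl⟩), map_zero]
  · have h1 := congr($ht (Ideal.Quotient.mk _ (X j)))
    rw [AlgHom.comp_apply, Ideal.Quotient.mkₐ_eq_mk, ← ha j] at h1
    have h2 : Ideal.Quotient.mk J (Ideal.Quotient.mk _ (a j)) =
        Ideal.Quotient.mk J (Ideal.Quotient.mk (Ideal.span (Set.range G)) (a₀ j)) := by
      rw [h1]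
      simp [J]
    rw [Ideal.Quotient.eq, RingHom.mem_ker, map_sub, red, Ideal.quotientMap_mk, Ideal.quotientMap_mk,
      ← map_sub, Ideal.Quotient.eq_zero_iff_mem, ha₀] at h2
    exact h2

end Lift

section Germ

variable {L : Type u} [CommRing L] (K : Subring (Germ (atTop : Filter ℕ) L))

theorem exists_eq_coe {R : Type u} (g : Germ (atTop : Filter ℕ) R) : ∃ x : ℕ → R, g = ↑x :=
  Quotient.inductionOn' g fun x => ⟨x, rfl⟩

/-- Push forward germs along a ring homomorphism. -/
noncomputable def germMap {R R' : Type u} [CommRing R] [CommRing R'] (φ : R →+* R') :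
    Germ (atTop : Filter ℕ) R →+* Germ (atTop : Filter ℕ) R' where
  toFun := Germ.map φ
  map_one' := congrArg Germ.ofFun (funext fun _ => φ.map_one)
  map_zero' := congrArg Germ.ofFun (funext fun _ => φ.map_zero)
  map_add' g g' := Quotient.inductionOn₂' g g' fun x y =>
    congrArg Germ.ofFun (funext fun k => φ.map_add (x k) (y k))
  map_mul' g g' := Quotient.inductionOn₂' g g' fun x y =>
    congrArg Germ.ofFun (funext fun k => φ.map_mul (x k) (y k))

/-- Polynomials over germs as germs of polynomials. -/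
noncomputable def germPoly : MvPolynomial σ K →+* Germ (atTop : Filter ℕ) (MvPolynomial σ L) :=
  eval₂Hom ((germMap (C : L →+* MvPolynomial σ L)).comp K.subtype)
    (fun j => Germ.ofFun fun _ => X j)

theorem exists_seq (p : MvPolynomial σ K) : ∃ x : ℕ → MvPolynomial σ L, germPoly K p = ↑x :=
  Quotient.inductionOn' (germPoly K p) fun x => ⟨x, rfl⟩

/-- The polynomials of the sequence. -/
noncomputable def seq (p : MvPolynomial σ K) : ℕ → MvPolynomial σ L := (exists_seq K p).choose

theorem seq_spec (p : MvPolynomial σ K) : germPoly K p = ↑(seq K p) := (exists_seq K p).choose_spec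

theorem seq_congr {p : MvPolynomial σ K} {x : ℕ → MvPolynomial σ L} (h : germPoly K p = ↑x) :
    ∀ᶠ k in atTop, seq K p k = x k :=
  Germ.coe_eq.mp ((seq_spec K p).symm.trans h)

theorem seq_add (p q : MvPolynomial σ K) :
    ∀ᶠ k in atTop, seq K (p + q) k = seq K p k + seq K q k :=
  seq_congr K (by rw [map_add, seq_spec, seq_spec]; rfl)

theorem seq_mul (p q : MvPolynomial σ K) :
    ∀ᶠ k in atTop, seq K (p * q) k = seq K p k * seq K q k :=
  seq_congr K (by rw [map_mul, seq_spec, seq_spec]; rfl)

theorem seq_sub (p q : MvPolynomial σ K) :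
    ∀ᶠ k in atTop, seq K (p - q) k = seq K p k - seq K q k :=
  seq_congr K (by rw [map_sub, seq_spec, seq_spec]; rfl)

theorem seq_one : ∀ᶠ k in atTop, seq K (1 : MvPolynomial σ K) k = 1 :=
  seq_congr K (by rw [map_one]; rfl)

theorem seq_X (j : σ) : ∀ᶠ k in atTop, seq K (X j) k = X j :=
  seq_congr K (by simp [germPoly])

theorem seq_C (c : K) (x : ℕ → L) (hx : (c : Germ (atTop : Filter ℕ) L) = ↑x) :
    ∀ᶠ k in atTop, seq K (C c : MvPolynomial σ K) k = C (x k) :=
  seq_congr K (by
    simp only [germPoly, eval₂Hom_C, RingHom.comp_apply, Subring.subtype_apply, hx]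
    rfl)

/-- Eventual induction principle. -/
theorem seq_pow (p : MvPolynomial σ K) (d : ℕ) :
    ∀ᶠ k in atTop, seq K (p ^ d) k = seq K p k ^ d :=
  seq_congr K (by rw [map_pow, seq_spec]; rfl)

theorem seq_mem_span {F : σ → MvPolynomial σ K} {p : MvPolynomial σ K}
    (hp : p ∈ Ideal.span (Set.range F)) :
    ∀ᶠ k in atTop, seq K p k ∈ Ideal.span (Set.range fun i => seq K (F i) k) := by
  induction hp using Submodule.span_induction with
  | mem x hx =>
    obtain ⟨i, rfl⟩ := hx
    exact Eventually.of_forall fun k => Ideal.subset_span ⟨i, rfl⟩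
  | zero =>
    filter_upwards [seq_congr K (x := 0) (show germPoly K (0 : MvPolynomial σ K) = _ by rw [map_zero]; rfl)]
      with k hk
    rw [hk]; exact Ideal.zero_mem _
  | add x y _ _ hx hy =>
    filter_upwards [hx, hy, seq_add K x y] with k h1 h2 h3
    rw [h3]; exact add_mem h1 h2
  | smul r x _ hx =>
    filter_upwards [hx, seq_mul K r x] with k h1 h2
    rw [smul_eq_mul, h2]; exact Ideal.mul_mem_left _ _ h1

theorem seq_aeval (a : σ → MvPolynomial τ K) (p : MvPolynomial σ K) :
    ∀ᶠ k in atTop, seq K (aeval a p) k = aeval (fun j => seq K (a j) k) (seq K p k) := by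
  induction p using MvPolynomial.induction_on with
  | C c =>
    obtain ⟨x, hx⟩ := exists_eq_coe (c : Germ (atTop : Filter ℕ) L)
    filter_upwards [seq_C K (σ := τ) c x hx, seq_C K (σ := σ) c x hx] with k h1 h2
    rw [aeval_C, MvPolynomial.algebraMap_eq, h1, h2, aeval_C, MvPolynomial.algebraMap_eq]
  | add p q hp hq =>
    filter_upwards [hp, hq, seq_add K p q, seq_add K (aeval a p) (aeval a q)] with k h1 h2 h3 h4
    rw [map_add, h4, h3, h1, h2, map_add]
  | mul_X p j hp =>
    filter_upwards [hp, seq_mul K p (X j), seq_mul K (aeval a p) (a j), seq_X K j] with k h1 h2 h3 h4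
    rw [map_mul, aeval_X, h3, h2, h1, h4, map_mul, aeval_X]

theorem seq_pderiv (j : σ) (p : MvPolynomial σ K) :
    ∀ᶠ k in atTop, seq K (pderiv j p) k = pderiv j (seq K p k) := by
  induction p using MvPolynomial.induction_on with
  | C c =>
    obtain ⟨x, hx⟩ := exists_eq_coe (c : Germ (atTop : Filter ℕ) L)
    filter_upwards [seq_congr K (x := 0) (show germPoly K (0 : MvPolynomial σ K) = _ by rw [map_zero]; rfl),
      seq_C K (σ := σ) c x hx] with k h1 h2
    rw [pderiv_C, h1, h2, pderiv_C, Pi.zero_apply]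
  | add p q hp hq =>
    filter_upwards [hp, hq, seq_add K p q, seq_add K (pderiv j p) (pderiv j q)] with k h1 h2 h3 h4
    rw [map_add, h4, h3, h1, h2, map_add]
  | mul_X p i hp =>
    filter_upwards [hp, seq_mul K p (X i), seq_X K i,
      seq_add K (pderiv j p * X i) (p * pderiv j (X i)), seq_mul K (pderiv j p) (X i),
      seq_mul K p (pderiv j (X i)), seq_one K (σ := σ),
      seq_congr K (x := 0) (show germPoly K (0 : MvPolynomial σ K) = _ by rw [map_zero]; rfl)]
      with k h1 h2 h3 h4 h5 h6 h7 h8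
    rw [pderiv_mul, h4, h5, h6, h2, pderiv_mul, h1, h3]
    by_cases hij : i = j
    · subst hij; simp [h7]
    · simp [pderiv_X, hij, h8]

theorem seq_det (M : Matrix σ σ (MvPolynomial σ K)) :
    ∀ᶠ k in atTop, seq K M.det k = (Matrix.of fun i j => seq K (M i j) k).det := by
  refine seq_congr K ?_
  rw [RingHom.map_det]
  have e : (germPoly K).mapMatrix M = (Germ.coeRingHom (atTop : Filter ℕ)).mapMatrix
      (Matrix.of fun i j => seq K (M i j)) := by
    ext i j
    exact seq_spec K (M i j)
  rw [e, ← RingHom.map_det]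
  refine congrArg Germ.ofFun (funext fun k => ?_)
  exact RingHom.map_det (Pi.evalRingHom (fun _ : ℕ => MvPolynomial σ L) k)
    (Matrix.of fun i j => seq K (M i j))

theorem Cert.seq {F : σ → MvPolynomial σ K} (hF : Cert F) :
    ∀ᶠ k in atTop, Cert fun i => Elkik5.seq K (F i) k := by
  obtain ⟨g, hg⟩ := hF.jac
  choose d c hc using hF.monic
  have hjac : ∀ᶠ k in atTop, ∃ g', (Matrix.of fun i j => pderiv j (Elkik5.seq K (F i) k)).det * g' - 1 ∈
      Ideal.span (Set.range fun i => Elkik5.seq K (F i) k) := by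
    have hp : ∀ᶠ k in atTop, ∀ i j, Elkik5.seq K (pderiv j (F i)) k = pderiv j (Elkik5.seq K (F i) k) :=
      eventually_all.mpr fun i => eventually_all.mpr fun j => seq_pderiv K j (F i)
    filter_upwards [seq_mem_span K hg, seq_sub K ((Matrix.of fun i j => pderiv j (F i)).det * g) 1,
      seq_mul K (Matrix.of fun i j => pderiv j (F i)).det g, seq_one K (σ := σ),
      seq_det K (Matrix.of fun i j => pderiv j (F i)), hp] with k h1 h2 h3 h4 h5 h6
    refine ⟨Elkik5.seq K g k, ?_⟩
    rw [h2, h3, h4, h5] at h1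
    simpa only [Matrix.of_apply, h6] using h1
  have hmonic : ∀ᶠ k in atTop, ∀ j, ∃ (d' : ℕ) (c' : Fin d' → L),
      X j ^ d' + ∑ i : Fin d', C (c' i) * X j ^ (i : ℕ) ∈
        Ideal.span (Set.range fun i => Elkik5.seq K (F i) k) := by
    refine eventually_all.mpr fun j => ?_
    choose x hx using fun i => exists_eq_coe ((c j i : K) : Germ (atTop : Filter ℕ) L)
    have e : ∀ᶠ k in atTop, Elkik5.seq K (X j ^ d j + ∑ i : Fin (d j), C (c j i) * X j ^ (i : ℕ)) k =
        X j ^ d j + ∑ i : Fin (d j), C (x i k) * X j ^ (i : ℕ) := by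
      refine seq_congr K (Eq.trans ?_ (map_add (Germ.coeRingHom (atTop : Filter ℕ))
        (fun _ => X j ^ d j) (fun k => ∑ i : Fin (d j), C (x i k) * X j ^ (i : ℕ))).symm)
      rw [map_add, map_pow, map_sum]
      refine congrArg₂ (· + ·) (by simp [germPoly]; rfl) ?_
      have : (fun k => ∑ i : Fin (d j), C (x i k) * X j ^ (i : ℕ) : ℕ → MvPolynomial σ L) =
          ∑ i : Fin (d j), fun k => C (x i k) * X j ^ (i : ℕ) := by
        funext k; rw [Finset.sum_apply]
      rw [this, map_sum]
      refine Finset.sum_congr rfl fun i _ => ?_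
      simp only [germPoly, map_mul, map_pow, eval₂Hom_C, eval₂Hom_X', RingHom.comp_apply,
        Subring.subtype_apply, hx]
      rfl
    filter_upwards [e, seq_mem_span K (hc j)] with k h1 h2
    exact ⟨d j, fun i => x i k, h1 ▸ h2⟩
  filter_upwards [hjac, hmonic] with k h1 h2
  exact ⟨h1, h2⟩

theorem seq_map {L' : Type u} [CommRing L'] (K' : Subring (Germ (atTop : Filter ℕ) L')) (f : L →+* L')
    (m : K →+* K') (hm : ∀ c : K, (m c : Germ (atTop : Filter ℕ) L') = germMap f c)
    (p : MvPolynomial σ K) :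
    ∀ᶠ k in atTop, seq K' (map m p) k = map f (seq K p k) := by
  induction p using MvPolynomial.induction_on with
  | C c =>
    obtain ⟨x, hx⟩ := exists_eq_coe (c : Germ (atTop : Filter ℕ) L)
    filter_upwards [seq_C K' (σ := σ) (m c) (fun k => f (x k)) (by rw [hm, hx]; rfl),
      seq_C K (σ := σ) c x hx] with k h1 h2
    rw [map_C, h1, h2, map_C]
  | add p q hp hq =>
    filter_upwards [hp, hq, seq_add K p q, seq_add K' (map m p) (map m q)] with k h1 h2 h3 h4
    rw [map_add, h4, h3, h1, h2, map_add]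
  | mul_X p j hp =>
    filter_upwards [hp, seq_mul K p (X j), seq_mul K' (map m p) (X j), seq_X K j, seq_X K' j]
      with k h1 h2 h3 h4 h5
    rw [map_mul, MvPolynomial.map_X, h3, h2, h1, h5, h4, map_mul, MvPolynomial.map_X]

theorem seq_const (c₀ : L →+* K) (hc : ∀ z, (c₀ z : Germ (atTop : Filter ℕ) L) = ↑(fun _ : ℕ => z))
    (p : MvPolynomial σ L) : ∀ᶠ k in atTop, seq K (map c₀ p) k = p := by
  induction p using MvPolynomial.induction_on with
  | C z => rw [map_C]; exact seq_C K (c₀ z) (fun _ => z) (hc z)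
  | add p q hp hq =>
    filter_upwards [hp, hq, seq_add K (map c₀ p) (map c₀ q)] with k h1 h2 h3
    rw [map_add, h3, h1, h2]
  | mul_X p j hp =>
    filter_upwards [hp, seq_mul K (map c₀ p) (X j), seq_X K j] with k h1 h2 h3
    rw [map_mul, MvPolynomial.map_X, h2, h1, h3]

end Germ

end Groth.Agent.Elkik5
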