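import Groth.Agent.Elkik5.Germ
import Groth.Agent.Elkik5.Present
import Groth.Agent.HenselLib.FiniteEtaleLift

/-!
Finite étale algebras over `B[1/t]` and over the completed ring.
-/

set_option autoImplicit false
set_option linter.unusedSectionVars false
set_option linter.style.haveILetI false

universe u

namespace Groth.Agent.Elkik5

open MvPolynomial
open scoped TensorProduct
open Filter (Eventually Germ atTop eventually_all)

/-- A finite étale algebra has a square presentation. -/
theorem exists_cert (S E : Type u) [CommRing S] [CommRing E] [Algebra S E] [Module.Finite S E]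
    [Algebra.Etale S E] :
    ∃ (n : ℕ) (F : Fin n → MvPolynomial (Fin n) S), Cert F ∧ Nonempty (Quot' F ≃ₐ[S] E) := by
  classical
  rcases subsingleton_or_nontrivial E with hE | hE
  · have htop : Ideal.span (Set.range fun _ : Fin 1 => (1 : MvPolynomial (Fin 1) S)) = ⊤ :=
      Ideal.eq_top_of_isUnit_mem _ (Ideal.subset_span ⟨0, rfl⟩) isUnit_one
    refine ⟨1, fun _ => 1, ⟨⟨1, by rw [htop]; trivial⟩, fun j => ⟨0, fun i => i.elim0, by rw [htop]; trivial⟩⟩, ?_⟩
    haveI : Subsingleton (Quot' fun _ : Fin 1 => (1 : MvPolynomial (Fin 1) S)) :=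
      Ideal.Quotient.subsingleton_iff.mpr htop
    exact ⟨AlgEquiv.ofRingEquiv (f :=
      { toFun := fun _ => 0, invFun := fun _ => 0, left_inv := fun _ => Subsingleton.elim _ _
        right_inv := fun _ => Subsingleton.elim _ _, map_mul' := fun _ _ => Subsingleton.elim _ _
        map_add' := fun _ _ => Subsingleton.elim _ _ }) fun _ => Subsingleton.elim _ _⟩
  haveI := Algebra.Etale.iff_isStandardSmoothOfRelativeDimension_zero.mp ‹Algebra.Etale S E›
  obtain ⟨ι, κ, _, _, P, hP⟩ := Algebra.IsStandardSmoothOfRelativeDimension.out (n := 0) (R := S) (S := E)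
  haveI := Fintype.ofFinite ι
  haveI := Fintype.ofFinite κ
  have hcard : Fintype.card κ = Fintype.card ι := by
    have h1 : Fintype.card κ ≤ Fintype.card ι := Fintype.card_le_of_injective P.map P.map_inj
    rw [Algebra.Presentation.dimension, Nat.card_eq_fintype_card, Nat.card_eq_fintype_card] at hP
    lia
  let em : κ ≃ ι := Equiv.ofBijective P.map
    ((Fintype.bijective_iff_injective_and_card _).mpr ⟨P.map_inj, hcard⟩)
  let e : ι ≃ Fin (Fintype.card ι) := Fintype.equivFin ι
  let F : Fin (Fintype.card ι) → MvPolynomial (Fin (Fintype.card ι)) S :=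
    fun i => rename e (P.relation (em.symm (e.symm i)))
  let π : MvPolynomial (Fin (Fintype.card ι)) S →ₐ[S] E := aeval fun i => P.val (e.symm i)
  have hπ : ∀ p : MvPolynomial ι S, π (rename e p) = aeval P.val p := fun p => by
    simp only [π, aeval_rename]
    congr 1
    ext i
    simp
  have hsurj : Function.Surjective π := fun z => ⟨rename e (P.σ z), by rw [hπ, P.aeval_val_σ]⟩
  have hker : RingHom.ker π = Ideal.span (Set.range F) := by
    refine le_antisymm (fun p hp => ?_) ?_
    · obtain ⟨q, rfl⟩ := rename_surjective e e.surjective p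
      have h1 : q ∈ Ideal.span (Set.range P.relation) := by
        rw [P.span_range_relation_eq_ker]
        rw [P.ker_eq_ker_aeval_val, RingHom.mem_ker, ← hπ]; exact hp
      have h2 := Ideal.mem_map_of_mem (rename e : MvPolynomial ι S →ₐ[S] _) h1
      rw [Ideal.map_span, ← Set.range_comp] at h2
      refine Ideal.span_mono ?_ h2
      rintro _ ⟨r, rfl⟩
      exact ⟨e (em r), by simp [F]⟩
    · rw [Ideal.span_le]
      rintro _ ⟨i, rfl⟩
      show π (F i) = 0
      rw [hπ, P.aeval_val_relation]
  refine ⟨_, F, ⟨?_, fun j => ?_⟩,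
    ⟨(Ideal.quotientEquivAlgOfEq S hker.symm).trans (Ideal.quotientKerAlgEquivOfSurjective hsurj)⟩⟩
  · let ee : κ ≃ Fin (Fintype.card ι) := em.trans e
    let M : Matrix κ κ (MvPolynomial ι S) := Matrix.of fun r r' => pderiv (em r') (P.relation r)
    have hM : IsUnit (aeval P.val M.det) := by
      have h1 := P.jacobian_isUnit
      rw [P.jacobian_eq_jacobiMatrix_det] at h1
      have e1 : P.jacobiMatrix = M.transpose := by
        ext i j
        rw [P.jacobiMatrix_apply]
        rfl
      rw [e1, Matrix.det_transpose] at h1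
      rw [← P.algebraMap_apply]
      exact h1
    obtain ⟨g, hg⟩ := hM.exists_right_inv
    obtain ⟨g, rfl⟩ := hsurj g
    refine ⟨g, ?_⟩
    have hdet : (Matrix.of fun i j => pderiv j (F i)).det = rename e M.det := by
      rw [AlgHom.map_det, ← Matrix.det_reindex_self ee]
      congr 1
      ext i j
      simp only [Matrix.of_apply, Matrix.reindex_apply, Matrix.submatrix_apply,
        AlgHom.mapMatrix_apply, Matrix.map_apply, M, F]
      rw [← pderiv_rename e.injective]
      simp [ee]
    rw [← hker, RingHom.mem_ker, map_sub, map_mul, map_one, hdet, hπ, hg, sub_self]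
  · obtain ⟨p, hp, hp'⟩ := Algebra.IsIntegral.isIntegral (R := S) (π (X j))
    refine ⟨p.natDegree, fun i => p.coeff i, ?_⟩
    rw [← hker, RingHom.mem_ker, map_add, map_pow, map_sum]
    simp only [map_mul, map_pow]
    rw [hp.as_sum, Polynomial.eval₂_add, Polynomial.eval₂_X_pow, Polynomial.eval₂_finsetSum] at hp'
    simp only [Polynomial.eval₂_mul, Polynomial.eval₂_C, Polynomial.eval₂_X_pow] at hp'
    rw [Fin.sum_univ_eq_sum_range fun i => π (C (p.coeff i)) * π (X j) ^ i]
    convert! hp' using 3
    simp [π]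

namespace Dense

variable {B B' L Q : Type u} [CommRing B] [CommRing B'] [CommRing L] [CommRing Q]
variable {t : B} {ι : B →+* L} {t' : B'} {ι' : B' →+* Q} {f : L →+* Q}
variable (h : Dense t ι t' ι' f)

include h in
theorem self (hu : HenselianRing B' (Ideal.span {t'})) : Dense t' ι' t' ι' (RingHom.id Q) where
  unit := h.map_t ▸ h.unit.map f
  clear := h.clear'
  clear' := h.clear'
  map_t := rfl
  map_ball b := ⟨b, by simp⟩
  reflect := ⟨0, fun _ _ hx => hx⟩
  dense a m := ⟨a, by simp [zero_mem_ball]⟩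
  sep := h.sep
  henselian := hu

variable (h' : Dense t' ι' t' ι' (RingHom.id Q))

/-- Push convergent germs to the completed ring. -/
noncomputable def toSelf : h.conv →+* h'.conv :=
  ((germMap f).comp h.conv.subtype).codRestrict h'.conv fun g => by
    obtain ⟨x, a, hx, ha⟩ := g.2
    refine ⟨fun k => f (x k), a, ?_, ha⟩
    show germMap f (g : Germ (atTop : Filter ℕ) L) = _
    rw [hx]; rfl

theorem lim_toSelf : h'.lim.comp (h.toSelf h') = h.lim := by
  ext g
  obtain ⟨⟨x, a⟩, hx, ha⟩ := h.exists_rep g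
  rw [RingHom.comp_apply]
  have h2 : h'.lim (h.toSelf h' g) = a := h'.rep_limit_eq (x := fun k => f (x k))
    (show germMap f (g : Germ (atTop : Filter ℕ) L) = _ by rw [hx]; rfl) ha
  rw [h2]
  exact (h.rep_limit_eq hx ha).symm

theorem toSelf_const : (h.toSelf h').comp h.const = h'.const.comp f := RingHom.ext fun _ => rfl

theorem lim_comp_const : h.lim.comp h.const = f := RingHom.ext h.lim_const

variable {σ τ : Type} [Fintype σ] [DecidableEq σ] [Fintype τ] [DecidableEq τ]
variable {F : σ → MvPolynomial σ L} {G : τ → MvPolynomial τ L}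

theorem eventually_const_span {T : Type} [Fintype T] [DecidableEq T] (P : T → MvPolynomial T L) :
    ∀ᶠ k in atTop, Ideal.span (Set.range fun i => seq h.conv (map h.const (P i)) k) =
      Ideal.span (Set.range P) := by
  have : ∀ᶠ k in atTop, ∀ i, seq h.conv (map h.const (P i)) k = P i :=
    eventually_all.mpr fun i => seq_const h.conv h.const (fun _ => rfl) (P i)
  filter_upwards [this] with k hk
  simp only [hk]

include h in
theorem roots_injective (hF : Cert F) (hG : Cert G) (a a' : σ → MvPolynomial τ L)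
    (ha : ∀ i, aeval a (F i) ∈ Ideal.span (Set.range G))
    (ha' : ∀ i, aeval a' (F i) ∈ Ideal.span (Set.range G))
    (he : ∀ j, map f (a j) - map f (a' j) ∈ Ideal.span (Set.range fun i => map f (G i))) (j : σ) :
    a j - a' j ∈ Ideal.span (Set.range G) := by
  haveI := h.henselianRing_conv
  have key := root_unique h.lim h.lim_surjective (hG.map h.const) (hF.map h.const)
    (fun i => map h.const (a i)) (fun i => map h.const (a' i))
    (fun i => by rw [← map_aeval]; exact map_mem_span _ (ha i))
    (fun i => by rw [← map_aeval]; exact map_mem_span _ (ha' i))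
    (fun i => by simpa only [MvPolynomial.map_map, h.lim_comp_const] using he i) j
  rw [← map_sub] at key
  obtain ⟨k, h1, h2, h3⟩ := ((seq_mem_span h.conv key).and
    ((seq_const h.conv h.const (fun _ => rfl) (a j - a' j)).and (h.eventually_const_span G))).exists
  rw [h2, h3] at h1
  exact h1

include h h' in
theorem roots_surjective (hF : Cert F) (hG : Cert G) (b : σ → MvPolynomial τ Q)
    (hb : ∀ i, aeval b (map f (F i)) ∈ Ideal.span (Set.range fun i => map f (G i))) :
    ∃ a : σ → MvPolynomial τ L, (∀ i, aeval a (F i) ∈ Ideal.span (Set.range G)) ∧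
      ∀ j, map f (a j) - b j ∈ Ideal.span (Set.range fun i => map f (G i)) := by
  haveI := h.henselianRing_conv
  haveI := h'.henselianRing_conv
  obtain ⟨a, ha, hab⟩ := exists_root h.lim h.lim_surjective (hG.map h.const) (hF.map h.const) b
    (fun i => by simpa only [MvPolynomial.map_map, h.lim_comp_const] using hb i)
  simp only [MvPolynomial.map_map, h.lim_comp_const] at hab
  have key : ∀ j, map (h.toSelf h') (a j) - map h'.const (b j) ∈
      Ideal.span (Set.range fun i => map h'.const (map f (G i))) := by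
    refine root_unique h'.lim h'.lim_surjective ((hG.map f).map h'.const) ((hF.map f).map h'.const)
      (fun i => map (h.toSelf h') (a i)) (fun i => map h'.const (b i)) (fun i => ?_) (fun i => ?_)
      (fun i => ?_)
    · have := map_mem_span (h.toSelf h') (ha i)
      simpa only [map_aeval, MvPolynomial.map_map, h.toSelf_const] using this
    · have := map_mem_span h'.const (hb i)
      simpa only [map_aeval] using this
    · have hp : ∀ p : MvPolynomial τ Q, map h'.lim (map h'.const p) = p := fun p => by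
        rw [MvPolynomial.map_map, h'.lim_comp_const, MvPolynomial.map_id]
      simp only [hp]
      simp only [MvPolynomial.map_map, h.lim_toSelf]
      exact hab i
  have h1 : ∀ᶠ k in atTop, ∀ i, aeval (fun j => seq h.conv (a j) k) (F i) ∈ Ideal.span (Set.range G) := by
    refine eventually_all.mpr fun i => ?_
    filter_upwards [seq_mem_span h.conv (ha i), seq_aeval h.conv a (map h.const (F i)),
      seq_const h.conv h.const (fun _ => rfl) (F i), h.eventually_const_span G] with k h1 h2 h3 h4
    rwa [h2, h3, h4] at h1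
  have h2 : ∀ᶠ k in atTop, ∀ j, map f (seq h.conv (a j) k) - b j ∈
      Ideal.span (Set.range fun i => map f (G i)) := by
    refine eventually_all.mpr fun j => ?_
    filter_upwards [seq_mem_span h'.conv (key j), seq_sub h'.conv (map (h.toSelf h') (a j)) (map h'.const (b j)),
      seq_const h'.conv h'.const (fun _ => rfl) (b j),
      seq_map h.conv h'.conv f (h.toSelf h') (fun _ => rfl) (a j),
      h'.eventually_const_span fun i => map f (G i)] with k h1 h2 h3 h4 h5
    rwa [h2, h3, h4, h5] at h1
  obtain ⟨k, hk1, hk2⟩ := (h1.and h2).exists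
  exact ⟨fun j => seq h.conv (a j) k, hk1, hk2⟩

/-- Mutually inverse roots give an isomorphism. -/
theorem _root_.Groth.Agent.Elkik5.exists_equiv {S : Type u} [CommRing S] {P R : σ → MvPolynomial σ S}
    (a b : σ → MvPolynomial σ S) (ha : ∀ i, aeval a (P i) ∈ Ideal.span (Set.range R))
    (hb : ∀ i, aeval b (R i) ∈ Ideal.span (Set.range P))
    (hab : ∀ j, aeval b (a j) - X j ∈ Ideal.span (Set.range P))
    (hba : ∀ j, aeval a (b j) - X j ∈ Ideal.span (Set.range R)) :
    Nonempty (Quot' P ≃ₐ[S] Quot' R) := by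
  have kill : ∀ (P R : σ → MvPolynomial σ S) (a : σ → MvPolynomial σ S),
      (∀ i, aeval a (P i) ∈ Ideal.span (Set.range R)) → ∀ p ∈ Ideal.span (Set.range P),
      ((Ideal.Quotient.mkₐ S (Ideal.span (Set.range R))).comp (aeval a)) p = 0 := fun P R a ha p hp =>
    Ideal.Quotient.eq_zero_iff_mem.mpr <| (Ideal.span_le
      (I := (Ideal.span (Set.range R)).comap (aeval a).toRingHom)).mpr
      (by rintro _ ⟨i, rfl⟩; exact ha i) hp
  let u : Quot' P →ₐ[S] Quot' R := Ideal.Quotient.liftₐ _ _ (kill P R a ha)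
  let v : Quot' R →ₐ[S] Quot' P := Ideal.Quotient.liftₐ _ _ (kill R P b hb)
  refine ⟨AlgEquiv.ofAlgHom u v (Ideal.Quotient.algHom_ext S (MvPolynomial.algHom_ext fun j => ?_))
    (Ideal.Quotient.algHom_ext S (MvPolynomial.algHom_ext fun j => ?_))⟩
  · show u (Ideal.Quotient.mk _ (aeval b (X j))) = _
    rw [aeval_X]
    exact Ideal.Quotient.eq.mpr (hba j)
  · show v (Ideal.Quotient.mk _ (aeval a (X j))) = _
    rw [aeval_X]
    exact Ideal.Quotient.eq.mpr (hab j)

include h h' in
theorem exists_descent {F : σ → MvPolynomial σ h.conv} (hF : Cert F) :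
    ∃ F₀ : σ → MvPolynomial σ L, Cert F₀ ∧
      Nonempty (Quot' (fun i => map f (F₀ i)) ≃ₐ[Q] Quot' (fun i => map h.lim (F i))) := by
  haveI := h'.henselianRing_conv
  let F₁ := fun i => map (h.toSelf h') (F i)
  let F₂ := fun i => map h'.const (map h.lim (F i))
  have hF₁ : Cert F₁ := hF.map _
  have hF₂ : Cert F₂ := (hF.map _).map _
  have e₁ : ∀ i, map h'.lim (F₁ i) = map h.lim (F i) := fun i => by
    simp only [F₁, MvPolynomial.map_map, h.lim_toSelf]
  have e₂ : ∀ i, map h'.lim (F₂ i) = map h.lim (F i) := fun i => by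
    show map h'.lim (map h'.const (map h.lim (F i))) = _
    rw [MvPolynomial.map_map h'.const, h'.lim_comp_const, MvPolynomial.map_id]
  have hX : ∀ i, aeval (X : σ → MvPolynomial σ Q) (map h.lim (F i)) = map h.lim (F i) :=
    fun i => aeval_X_left_apply _
  obtain ⟨a, ha, ha'⟩ := exists_root h'.lim h'.lim_surjective hF₂ hF₁ X (fun i => by
    simp only [e₁, e₂, hX]; exact Ideal.subset_span ⟨i, rfl⟩)
  obtain ⟨b, hb, hb'⟩ := exists_root h'.lim h'.lim_surjective hF₁ hF₂ X (fun i => by
    simp only [e₁, e₂, hX]; exact Ideal.subset_span ⟨i, rfl⟩)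
  simp only [e₁, e₂] at ha' hb'
  have hcomp : ∀ (a b : σ → MvPolynomial σ h'.conv) (j : σ),
      (∀ k, map h'.lim (a k) - X k ∈ Ideal.span (Set.range fun i => map h.lim (F i))) →
      (∀ k, map h'.lim (b k) - X k ∈ Ideal.span (Set.range fun i => map h.lim (F i))) →
      map h'.lim (aeval b (a j)) - X j ∈ Ideal.span (Set.range fun i => map h.lim (F i)) := by
    intro a b j ha hb
    rw [map_aeval, ← Ideal.Quotient.eq, mk_aeval]
    have : (fun k => Ideal.Quotient.mk (Ideal.span (Set.range fun i => map h.lim (F i))) (map h'.lim (b k))) =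
        fun k => Ideal.Quotient.mk _ (X k) := funext fun k => Ideal.Quotient.eq.mpr (hb k)
    rw [this, ← mk_aeval, aeval_X_left_apply]
    exact Ideal.Quotient.eq.mpr (ha j)
  have hid : ∀ (P R : σ → MvPolynomial σ h'.conv) (a b : σ → MvPolynomial σ h'.conv),
      Cert P → (∀ i, aeval a (P i) ∈ Ideal.span (Set.range R)) →
      (∀ i, aeval b (R i) ∈ Ideal.span (Set.range P)) → (∀ i, map h'.lim (P i) = map h.lim (F i)) →
      (∀ k, map h'.lim (a k) - X k ∈ Ideal.span (Set.range fun i => map h.lim (F i))) →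
      (∀ k, map h'.lim (b k) - X k ∈ Ideal.span (Set.range fun i => map h.lim (F i))) →
      ∀ j, aeval b (a j) - X j ∈ Ideal.span (Set.range P) := by
    intro P R a b hP ha hb eP ha' hb'
    refine root_unique h'.lim h'.lim_surjective hP hP (fun j => aeval b (a j)) X (fun i => ?_)
      (fun i => by rw [aeval_X_left_apply]; exact Ideal.subset_span ⟨i, rfl⟩) (fun j => ?_)
    · rw [show aeval (fun j => aeval b (a j)) (P i) = aeval b (aeval a (P i)) from
        (AlgHom.congr_fun (comp_aeval a (aeval b)) (P i)).symm]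
      exact (Ideal.span_le (I := (Ideal.span (Set.range P)).comap (aeval b).toRingHom)).mpr
        (by rintro _ ⟨i, rfl⟩; exact hb i) (ha i)
    · simp only [eP, MvPolynomial.map_X]
      exact hcomp a b j ha' hb'
  have hab := hid F₁ F₂ a b hF₁ ha hb e₁ ha' hb'
  have hba := hid F₂ F₁ b a hF₂ hb ha e₂ hb' ha'
  have h1 : ∀ᶠ k in atTop, ∀ i, seq h'.conv (F₁ i) k = map f (seq h.conv (F i) k) :=
    eventually_all.mpr fun i => seq_map h.conv h'.conv f (h.toSelf h') (fun _ => rfl) (F i)
  have h2 : ∀ᶠ k in atTop, ∀ i, seq h'.conv (F₂ i) k = map h.lim (F i) :=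
    eventually_all.mpr fun i => seq_const h'.conv h'.const (fun _ => rfl) _
  have sroot : ∀ (P R : σ → MvPolynomial σ h'.conv) (a : σ → MvPolynomial σ h'.conv),
      (∀ i, aeval a (P i) ∈ Ideal.span (Set.range R)) → ∀ᶠ k in atTop, ∀ i,
      aeval (fun j => seq h'.conv (a j) k) (seq h'.conv (P i) k) ∈
        Ideal.span (Set.range fun i => seq h'.conv (R i) k) := fun P R a ha =>
    eventually_all.mpr fun i => by
      filter_upwards [seq_mem_span h'.conv (ha i), seq_aeval h'.conv a (P i)] with k h1 h2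
      rwa [← h2]
  have sinv : ∀ (P : σ → MvPolynomial σ h'.conv) (a b : σ → MvPolynomial σ h'.conv),
      (∀ j, aeval b (a j) - X j ∈ Ideal.span (Set.range P)) → ∀ᶠ k in atTop, ∀ j,
      aeval (fun i => seq h'.conv (b i) k) (seq h'.conv (a j) k) - X j ∈
        Ideal.span (Set.range fun i => seq h'.conv (P i) k) := fun P a b hab =>
    eventually_all.mpr fun j => by
      filter_upwards [seq_mem_span h'.conv (hab j), seq_aeval h'.conv b (a j),
        seq_sub h'.conv (aeval b (a j)) (X j), seq_X h'.conv j] with k h1 h2 h3 h4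
      rwa [← h2, ← h4, ← h3]
  obtain ⟨k, hk, k1, k2, k3, k4, k5, k6⟩ := ((Cert.seq h.conv hF).and (h1.and (h2.and
    ((sroot F₁ F₂ a ha).and ((sroot F₂ F₁ b hb).and ((sinv F₁ a b hab).and (sinv F₂ b a hba))))))).exists
  simp only [k1, k2] at k3 k4 k5 k6
  exact ⟨_, hk, exists_equiv _ _ k3 k4 k5 k6⟩

end Dense

section BaseChange

variable {L Q : Type u} [CommRing L] [CommRing Q] [Algebra L Q]
variable {σ : Type} [Fintype σ] [DecidableEq σ] (F : σ → MvPolynomial σ L)

/-- Base change of a presentation. -/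
noncomputable def baseChangeEquiv :
    (Q ⊗[L] Quot' F) ≃ₐ[Q] Quot' (fun i => map (algebraMap L Q) (F i)) :=
  AlgEquiv.ofAlgHom
    (Algebra.TensorProduct.lift (Algebra.ofId _ _)
      (Ideal.Quotient.liftₐ _ ((Ideal.Quotient.mkₐ L _).comp (MvPolynomial.mapAlgHom (Algebra.ofId L Q)))
        fun p hp => Ideal.Quotient.eq_zero_iff_mem.mpr (by
          show map (algebraMap L Q) p ∈ _
          exact map_mem_span _ hp))
      fun _ _ => Commute.all _ _)
    (Ideal.Quotient.liftₐ _ (aeval fun j => (1 : Q) ⊗ₜ[L] Ideal.Quotient.mk (Ideal.span (Set.range F)) (X j))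
      fun p hp => by
        refine (Ideal.span_le (I := RingHom.ker (aeval fun j =>
          (1 : Q) ⊗ₜ[L] Ideal.Quotient.mk (Ideal.span (Set.range F)) (X j) :
            MvPolynomial σ Q →ₐ[Q] Q ⊗[L] Quot' F).toRingHom)).mpr ?_ hp
        rintro _ ⟨i, rfl⟩
        show aeval _ (map (algebraMap L Q) (F i)) = 0
        rw [aeval_map_algebraMap]
        have e : (aeval fun j => (1 : Q) ⊗ₜ[L] Ideal.Quotient.mk (Ideal.span (Set.range F)) (X j)) =
            (Algebra.TensorProduct.includeRight : Quot' F →ₐ[L] Q ⊗[L] Quot' F).comp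
              (Ideal.Quotient.mkₐ L _) :=
          MvPolynomial.algHom_ext fun j => by simp
        rw [e, AlgHom.comp_apply, Ideal.Quotient.mkₐ_eq_mk,
          Ideal.Quotient.eq_zero_iff_mem.mpr (Ideal.subset_span (s := Set.range F) ⟨i, rfl⟩), map_zero])
    (Ideal.Quotient.algHom_ext Q (MvPolynomial.algHom_ext fun j => by simp))
    (Algebra.TensorProduct.ext (by ext) (Ideal.Quotient.algHom_ext L
      (MvPolynomial.algHom_ext fun j => by simp)))

theorem baseChangeEquiv_tmul (p : MvPolynomial σ L) :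
    baseChangeEquiv (Q := Q) F (1 ⊗ₜ Ideal.Quotient.mk _ p) = Ideal.Quotient.mk _ (map (algebraMap L Q) p) := by
  simp [baseChangeEquiv, Algebra.ofId]

end BaseChange

namespace Dense

variable {B B' L Q : Type u} [CommRing B] [CommRing B'] [CommRing L] [CommRing Q] [Algebra L Q]
variable {t : B} {ι : B →+* L} {t' : B'} {ι' : B' →+* Q}
variable (h : Dense t ι t' ι' (algebraMap L Q)) (hu : HenselianRing B' (Ideal.span {t'}))
include h hu

theorem bijective_quot {σ τ : Type} [Fintype σ] [DecidableEq σ] [Fintype τ] [DecidableEq τ]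
    {F : σ → MvPolynomial σ L} {G : τ → MvPolynomial τ L} (hF : Cert F) (hG : Cert G) :
    Function.Bijective fun φ : Quot' F →ₐ[L] Quot' G =>
      Algebra.TensorProduct.map (AlgHom.id Q Q) φ := by
  constructor
  · intro φ ψ he
    choose a ha using fun j => Ideal.Quotient.mk_surjective (φ (Ideal.Quotient.mk _ (X j)))
    choose a' ha' using fun j => Ideal.Quotient.mk_surjective (ψ (Ideal.Quotient.mk _ (X j)))
    have root : ∀ (φ : Quot' F →ₐ[L] Quot' G) (a : σ → MvPolynomial τ L),
        (∀ j, Ideal.Quotient.mk _ (a j) = φ (Ideal.Quotient.mk _ (X j))) →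
        ∀ i, aeval a (F i) ∈ Ideal.span (Set.range G) := fun φ a ha i => by
      have e : (aeval fun k => Ideal.Quotient.mk (Ideal.span (Set.range G)) (a k)) =
          φ.comp (Ideal.Quotient.mkₐ L _) := MvPolynomial.algHom_ext fun k => by
        rw [aeval_X, ha]; rfl
      rw [← Ideal.Quotient.eq_zero_iff_mem, mk_aeval, e, AlgHom.comp_apply, Ideal.Quotient.mkₐ_eq_mk,
        Ideal.Quotient.eq_zero_iff_mem.mpr (Ideal.subset_span (s := Set.range F) ⟨i, rfl⟩), map_zero]
    have key := h.roots_injective hF hG a a' (root φ a ha) (root ψ a' ha') fun j => by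
      have h1 := congrArg (baseChangeEquiv (Q := Q) G) (congr($he (1 ⊗ₜ Ideal.Quotient.mk _ (X j))))
      rw [Algebra.TensorProduct.map_tmul, Algebra.TensorProduct.map_tmul, ← ha, ← ha',
        AlgHom.id_apply, baseChangeEquiv_tmul, baseChangeEquiv_tmul] at h1
      exact Ideal.Quotient.eq.mp h1
    refine Ideal.Quotient.algHom_ext L (MvPolynomial.algHom_ext fun j => ?_)
    show φ (Ideal.Quotient.mk _ (X j)) = ψ (Ideal.Quotient.mk _ (X j))
    rw [← ha, ← ha']
    exact Ideal.Quotient.eq.mpr (key j)
  · intro χ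
    choose b hb using fun j => Ideal.Quotient.mk_surjective
      (baseChangeEquiv (Q := Q) G (χ (1 ⊗ₜ Ideal.Quotient.mk _ (X j))))
    obtain ⟨a, ha, hab⟩ := h.roots_surjective (h.self hu) hF hG b fun i => by
      let χ' := ((baseChangeEquiv (Q := Q) G).toAlgHom.comp χ).comp (baseChangeEquiv (Q := Q) F).symm.toAlgHom
      have e : (aeval fun k => Ideal.Quotient.mk
          (Ideal.span (Set.range fun i => map (algebraMap L Q) (G i))) (b k)) =
          χ'.comp (Ideal.Quotient.mkₐ Q _) := MvPolynomial.algHom_ext fun k => by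
        rw [aeval_X, hb]
        show _ = baseChangeEquiv G (χ ((baseChangeEquiv F).symm (Ideal.Quotient.mk _ (X k))))
        congr 2
        rw [AlgEquiv.eq_symm_apply, baseChangeEquiv_tmul, MvPolynomial.map_X]
      rw [← Ideal.Quotient.eq_zero_iff_mem, mk_aeval, e, AlgHom.comp_apply, Ideal.Quotient.mkₐ_eq_mk,
        Ideal.Quotient.eq_zero_iff_mem.mpr
          (Ideal.subset_span (s := Set.range fun i => map (algebraMap L Q) (F i)) ⟨i, rfl⟩), map_zero]
    refine ⟨Ideal.Quotient.liftₐ _ ((Ideal.Quotient.mkₐ L _).comp (aeval a)) fun p hp =>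
      Ideal.Quotient.eq_zero_iff_mem.mpr ((Ideal.span_le
        (I := (Ideal.span (Set.range G)).comap (aeval a).toRingHom)).mpr
        (by rintro _ ⟨i, rfl⟩; exact ha i) hp), ?_⟩
    refine Algebra.TensorProduct.ext (by ext) (Ideal.Quotient.algHom_ext L (MvPolynomial.algHom_ext fun j => ?_))
    refine (baseChangeEquiv (Q := Q) G).injective ?_
    simp only [AlgHom.comp_apply, AlgHom.restrictScalars_apply, Algebra.TensorProduct.includeRight_apply,
      Ideal.Quotient.mkₐ_eq_mk, Algebra.TensorProduct.map_tmul, Ideal.Quotient.liftₐ_apply,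
      Ideal.Quotient.lift_mk, RingHom.coe_coe, AlgHom.id_apply, aeval_X, baseChangeEquiv_tmul]
    rw [← hb]
    exact Ideal.Quotient.eq.mpr (hab j)

/-- Base change is bijective on maps of finite étale algebras. -/
theorem bijective_baseChange (D C : Type u) [CommRing D] [CommRing C] [Algebra L D] [Algebra L C]
    [Module.Finite L D] [Algebra.Etale L D] [Module.Finite L C] [Algebra.Etale L C] :
    Function.Bijective fun φ : D →ₐ[L] C => Algebra.TensorProduct.map (AlgHom.id Q Q) φ := by
  obtain ⟨_, F, hF, ⟨eD⟩⟩ := exists_cert L D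
  obtain ⟨_, G, hG, ⟨eC⟩⟩ := exists_cert L C
  have key := h.bijective_quot hu hF hG
  constructor
  · intro φ ψ he
    have h1 : (eC.symm.toAlgHom.comp φ).comp eD.toAlgHom = (eC.symm.toAlgHom.comp ψ).comp eD.toAlgHom := by
      refine key.1 ?_
      refine Algebra.TensorProduct.ext' fun q x => ?_
      simp only [Algebra.TensorProduct.map_tmul, AlgHom.comp_apply]
      have h2 := congrArg (Algebra.TensorProduct.map (AlgHom.id Q Q) eC.symm.toAlgHom)
        (congr($he (q ⊗ₜ eD x)))
      simpa using h2
    refine AlgHom.ext fun d => eC.symm.injective ?_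
    simpa using congr($h1 (eD.symm d))
  · intro χ
    obtain ⟨φ, hφ⟩ := key.2 (((Algebra.TensorProduct.map (AlgHom.id Q Q) eC.symm.toAlgHom).comp χ).comp
      (Algebra.TensorProduct.map (AlgHom.id Q Q) eD.toAlgHom))
    refine ⟨(eC.toAlgHom.comp φ).comp eD.symm.toAlgHom, Algebra.TensorProduct.ext' fun q x => ?_⟩
    have h1 := congrArg (Algebra.TensorProduct.map (AlgHom.id Q Q) eC.toAlgHom)
      (congr($hφ (q ⊗ₜ eD.symm x)))
    have e : ∀ z : Q ⊗[L] C, Algebra.TensorProduct.map (AlgHom.id Q Q) eC.toAlgHom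
        (Algebra.TensorProduct.map (AlgHom.id Q Q) eC.symm.toAlgHom z) = z := fun z => by
      induction z using TensorProduct.induction_on with
      | zero => simp
      | tmul a b => simp
      | add a b ha hb => rw [map_add, map_add, ha, hb]
    simp only [Algebra.TensorProduct.map_tmul, AlgHom.comp_apply, AlgEquiv.coe_toAlgHom,
      AlgEquiv.apply_symm_apply, AlgHom.id_apply, e] at h1 ⊢
    exact h1

/-- Finite étale algebras descend. -/
theorem exists_etale_descent (C : Type u) [CommRing C] [Algebra Q C] [Module.Finite Q C]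
    [Algebra.Etale Q C] :
    ∃ (D : Type u) (_ : CommRing D) (_ : Algebra L D), Module.Finite L D ∧ Algebra.Etale L D ∧
      Nonempty ((Q ⊗[L] D) ≃ₐ[Q] C) := by
  haveI := h.henselianRing_conv
  letI algQ : Algebra h.conv Q := h.lim.toAlgebra
  let eQ : (h.conv ⧸ RingHom.ker h.lim) ≃+* Q := RingHom.quotientKerEquivOfSurjective h.lim_surjective
  letI algC : Algebra (h.conv ⧸ RingHom.ker h.lim) C :=
    ((algebraMap Q C).comp eQ.toRingHom).toAlgebra
  haveI : Module.Finite (h.conv ⧸ RingHom.ker h.lim) C :=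
    RingHom.finite_algebraMap.mp ((RingHom.finite_algebraMap.mpr ‹Module.Finite Q C›).comp
      (RingHom.Finite.of_surjective _ eQ.surjective))
  haveI : Algebra.Etale (h.conv ⧸ RingHom.ker h.lim) C :=
    RingHom.etale_algebraMap.mp (RingHom.Etale.respectsIso.2 _ eQ (RingHom.etale_algebraMap.mpr ‹_›))
  obtain ⟨E, _, _, hfin, het, ⟨θ⟩⟩ := HenselLib.exists_finiteEtale_lift h.conv (RingHom.ker h.lim) C
  obtain ⟨n, F, hF, ⟨eE⟩⟩ := exists_cert h.conv E
  obtain ⟨F₀, hF₀, ⟨e⟩⟩ := h.exists_descent (h.self hu) hF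
  refine ⟨Quot' F₀, inferInstance, inferInstance, hF₀.finite, hF₀.etale, ⟨?_⟩⟩
  refine ((baseChangeEquiv F₀).trans e).trans ?_
  refine AlgEquiv.trans (A₂ := Q ⊗[h.conv] E) ?_ ?_
  · exact (baseChangeEquiv (Q := Q) F).symm.trans
      (Algebra.TensorProduct.congr AlgEquiv.refl eE)
  · let u : Q ⊗[h.conv] E ≃+* C :=
      ((Algebra.TensorProduct.congr
        (AlgEquiv.ofRingEquiv (f := eQ.symm) (fun s => by
          rw [RingEquiv.symm_apply_eq]; rfl) : Q ≃ₐ[h.conv] (h.conv ⧸ RingHom.ker h.lim))
        (AlgEquiv.refl : E ≃ₐ[h.conv] E)).toRingEquiv.trans θ.toRingEquiv)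
    refine AlgEquiv.ofRingEquiv (f := u) fun q => ?_
    show θ (eQ.symm q ⊗ₜ[h.conv] (1 : E)) = algebraMap Q C q
    refine (θ.commutes (eQ.symm q)).trans ?_
    show algebraMap Q C (eQ (eQ.symm q)) = _
    rw [RingEquiv.apply_symm_apply]

end Dense

end Groth.Agent.Elkik5
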