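import Mathlib
import Groth.Prelude.Def_Hens2
import Groth.Agent.HenselLib.HEtale

/-!
`R{t}` against `R[[t]]`: the map `R[[t]] → completion of R{t}` inverse to the canonical one.
-/

set_option autoImplicit false
set_option linter.style.haveILetI false

universe u

namespace Groth.Agent.Elkik5

open Polynomial

variable {R : Type u} [CommRing R] {B : Type u} [CommRing B] [Algebra R[X] B]

local notation "IX" => Ideal.span ({(X : R[X])} : Set R[X])

theorem henselian_span (hB : Hens2.IsPairHenselization R[X] IX B) :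
    HenselianRing B (Ideal.span {algebraMap R[X] B X}) := by
  have h := hB.1
  rwa [Ideal.map_span, Set.image_singleton] at h

theorem torsion_zero (hB : Hens2.IsPairHenselization R[X] IX B) (a : B)
    (h : ∃ m : ℕ, algebraMap R[X] B X ^ m * a = 0) : a = 0 := by
  have hB' : HenselLib.IsPairHull R[X] (Ideal.map (algebraMap R[X] R[X]) IX) B := by
    rw [Algebra.algebraMap_self, Ideal.map_id]; exact hB
  haveI : Module.Flat R[X] B := HenselLib.flat_of_isPairHull hB'
  obtain ⟨m, hm⟩ := h
  have hreg : IsSMulRegular B ((X : R[X]) ^ m) :=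
    Module.Flat.isSMulRegular_of_isRegular ((monic_X_pow m).isRegular)
  refine hreg ?_
  show (X : R[X]) ^ m • a = (X : R[X]) ^ m • (0 : B)
  rw [smul_zero, Algebra.smul_def, map_pow]
  exact hm

theorem trunc_congr {n : ℕ} {p q : R[X]}
    (h : (PowerSeries.X : PowerSeries R) ^ n ∣ (p : PowerSeries R) - (q : PowerSeries R)) :
    Ideal.Quotient.mk (IX ^ n) p = Ideal.Quotient.mk (IX ^ n) q := by
  rw [Ideal.Quotient.eq, Ideal.span_singleton_pow, Ideal.mem_span_singleton, Polynomial.X_pow_dvd_iff]
  intro d hd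
  have := PowerSeries.X_pow_dvd_iff.mp h d hd
  simpa using this

theorem trunc_dvd (n : ℕ) (f : PowerSeries R) :
    (PowerSeries.X : PowerSeries R) ^ n ∣ f - ((f.trunc n : R[X]) : PowerSeries R) := by
  rw [PowerSeries.X_pow_dvd_iff]
  intro d hd
  simp [PowerSeries.coeff_trunc, hd]

/-- `R[[X]] → R[X] ⧸ (X ^ n)`. -/
noncomputable def truncHom (n : ℕ) : PowerSeries R →+* R[X] ⧸ (IX ^ n) where
  toFun f := Ideal.Quotient.mk _ (f.trunc n)
  map_zero' := by simp
  map_one' := by
    rw [← map_one (Ideal.Quotient.mk (IX ^ n))]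
    refine trunc_congr ?_
    rw [Polynomial.coe_one, ← neg_sub]
    exact (trunc_dvd n 1).neg_right
  map_add' f g := by rw [← map_add]; congr 1; exact map_add _ _ _
  map_mul' f g := by
    rw [← map_mul]
    refine trunc_congr ?_
    rw [Polynomial.coe_mul]
    set F := ((f.trunc n : R[X]) : PowerSeries R)
    set G := ((g.trunc n : R[X]) : PowerSeries R)
    have h1 := trunc_dvd n (f * g)
    have h2 : (PowerSeries.X : PowerSeries R) ^ n ∣ f * g - F * G := by
      rw [show f * g - F * G = (f - F) * g + F * (g - G) by ring]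
      exact dvd_add ((trunc_dvd n f).mul_right _) ((trunc_dvd n g).mul_left _)
    exact (by simpa using dvd_sub h2 h1)

theorem truncHom_coe (n : ℕ) (p : R[X]) :
    truncHom n (p : PowerSeries R) = Ideal.Quotient.mk (IX ^ n) p := by
  refine trunc_congr ?_
  rw [← neg_sub]
  exact (trunc_dvd n _).neg_right

/-- The inverse comparison `R[[X]] → completion of R{X}`. -/
theorem exists_toCompletion (hB : Hens2.IsPairHenselization R[X] IX B)
    (ψ : B →ₐ[R[X]] PowerSeries R) :
    ∃ φ : PowerSeries R →+* AdicCompletion (Ideal.span {algebraMap R[X] B X}) B,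
      ∀ b : B, φ (ψ b) = algebraMap B (AdicCompletion (Ideal.span {algebraMap R[X] B X}) B) b := by
  set J : Ideal B := Ideal.span {algebraMap R[X] B X} with hJ
  have hmap : ∀ n : ℕ, (IX ^ n).map (algebraMap R[X] B) = J ^ n := fun n => by
    rw [Ideal.map_pow, Ideal.map_span, Set.image_singleton]
  let q : ∀ n : ℕ, R[X] ⧸ IX ^ n →+* B ⧸ J ^ n := fun n =>
    Ideal.quotientMap (J ^ n) (algebraMap R[X] B) (Ideal.map_le_iff_le_comap.mp (hmap n).le)
  have hsurj : ∀ (n : ℕ) (b : B), ∃ p : R[X], b - algebraMap R[X] B p ∈ J ^ n := by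
    intro n b
    obtain ⟨x, hx⟩ := (HenselLib.IsPairHull.bijective_quotientMap (R := R[X]) (I := IX) (B := B) hB n).2
      (Ideal.Quotient.mk _ b)
    obtain ⟨p, rfl⟩ := Ideal.Quotient.mk_surjective x
    rw [Ideal.quotientMap_mk, Ideal.Quotient.eq] at hx
    exact ⟨p, by rw [← neg_sub, ← hmap n]; exact neg_mem hx⟩
  let f : ∀ n : ℕ, PowerSeries R →+* B ⧸ J ^ n := fun n => (q n).comp (truncHom n)
  have hf : ∀ {m n : ℕ} (hle : m ≤ n), (Ideal.Quotient.factorPow J hle).comp (f n) = f m := by
    intro m n hle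
    ext F
    show Ideal.Quotient.mk (J ^ m) (algebraMap R[X] B (F.trunc n)) = q m (truncHom m F)
    have h1 : truncHom m F = Ideal.Quotient.mk (IX ^ m) (F.trunc n) := by
      refine trunc_congr ?_
      have := dvd_sub ((pow_dvd_pow _ hle).trans (trunc_dvd n F)) (trunc_dvd m F)
      simpa using this
    rw [h1]
    exact (Ideal.quotientMap_mk).symm
  refine ⟨AdicCompletion.liftRingHom J f hf, fun b => AdicCompletion.ext_evalₐ fun n => ?_⟩
  rw [AdicCompletion.evalₐ_liftRingHom]
  obtain ⟨p, hp⟩ := hsurj n b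
  obtain ⟨c, hc⟩ := Ideal.mem_span_singleton.mp (Ideal.span_singleton_pow (algebraMap R[X] B X) n ▸ hp)
  have h0 : f n (ψ (algebraMap R[X] B X ^ n)) = 0 := by
    rw [← map_pow, ψ.commutes, PowerSeries.algebraMap_apply', Algebra.algebraMap_self,
      PowerSeries.map_id, id]
    show q n (truncHom n ((X ^ n : R[X]) : PowerSeries R)) = 0
    rw [truncHom_coe, show Ideal.Quotient.mk (IX ^ n) (X ^ n) = 0 from
      Ideal.Quotient.eq_zero_iff_mem.mpr (Ideal.pow_mem_pow (Ideal.mem_span_singleton_self _) n), map_zero]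
  have h1 : f n (ψ b) = Ideal.Quotient.mk (J ^ n) (algebraMap R[X] B p) := by
    rw [show b = algebraMap R[X] B p + algebraMap R[X] B X ^ n * c by rw [← hc]; ring,
      map_add ψ, map_mul ψ, map_add, map_mul, h0, zero_mul, add_zero, ψ.commutes,
      PowerSeries.algebraMap_apply', Algebra.algebraMap_self, PowerSeries.map_id, id]
    show q n (truncHom n (p : PowerSeries R)) = _
    rw [truncHom_coe]
    exact Ideal.quotientMap_mk
  rw [h1, AlgHom.commutes, Ideal.Quotient.algebraMap_eq]
  exact ((Ideal.Quotient.mk_eq_mk_iff_sub_mem _ _).mpr hp).symm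

end Groth.Agent.Elkik5
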