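import Groth.Agent.Elkik5.GermEquiv

/-!
Density data from a ring map that is bijective modulo all powers of `t`.
-/

set_option autoImplicit false

universe u

namespace Groth.Agent.Elkik5

/-- Density of `A[1/t]` in `A'[1/t]`. -/
theorem dense_of_approx {A A' L Q : Type u} [CommRing A] [CommRing A'] [CommRing L] [CommRing Q]
    [Algebra A L] [Algebra A' Q] (ψ : A →+* A') (t : A) [IsLocalization.Away t L]
    [IsLocalization.Away (ψ t) Q] [HenselianRing A (Ideal.span {t})] (f : L →+* Q)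
    (hf : f.comp (algebraMap A L) = (algebraMap A' Q).comp ψ)
    (hdense : ∀ (b' : A') (k : ℕ), ∃ b : A, ψ t ^ k ∣ b' - ψ b)
    (hdvd : ∀ (b : A) (k : ℕ), ψ t ^ k ∣ ψ b → t ^ k ∣ b)
    (hbd : ∃ N : ℕ, ∀ a : A', (∃ m : ℕ, ψ t ^ m * a = 0) → ψ t ^ N * a = 0)
    (hsep : ∀ a : A', (∀ k : ℕ, ψ t ^ k ∣ a) → a = 0) :
    Dense t (algebraMap A L) (ψ t) (algebraMap A' Q) f := by
  set ι := algebraMap A L
  set ι' := algebraMap A' Q
  have hfι : ∀ a, f (ι a) = ι' (ψ a) := fun a => RingHom.congr_fun hf a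
  have hclear : ∀ z : L, ∃ (k : ℕ) (b : A), z * ι t ^ k = ι b := fun z => by
    obtain ⟨k, a, h⟩ := IsLocalization.Away.surj t z
    exact ⟨k, a, h⟩
  have hclear' : ∀ z : Q, ∃ (k : ℕ) (b : A'), z * ι' (ψ t) ^ k = ι' b := fun z => by
    obtain ⟨k, a, h⟩ := IsLocalization.Away.surj (ψ t) z
    exact ⟨k, a, h⟩
  obtain ⟨N, hN⟩ := hbd
  have hker : ∀ a : A', ι' a = 0 → ψ t ^ N * a = 0 := fun a ha => by
    obtain ⟨⟨_, k, rfl⟩, hk⟩ := (IsLocalization.map_eq_zero_iff (Submonoid.powers (ψ t)) Q a).mp ha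
    exact hN a ⟨k, hk⟩
  have hu : IsUnit (ι t) := IsLocalization.Away.algebraMap_isUnit t
  have hu' : IsUnit (ι' (ψ t)) := IsLocalization.Away.algebraMap_isUnit (ψ t)
  refine ⟨hu, hclear, hclear', hfι t, fun b => ⟨ψ b, by rw [hfι, pow_zero, one_mul]⟩,
    ⟨N, fun m x hx => ?_⟩, fun a m => ?_, fun a ha => ?_, inferInstance⟩
  · obtain ⟨j, y, hy⟩ := hclear x
    obtain ⟨c, hc⟩ := hx
    have h0 : ψ t ^ N * (ψ y - ψ t ^ (m + N + j) * c) = 0 := hker _ (by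
      rw [map_sub, ← hfι, ← hy, map_mul f, hc, map_pow f, hfι, ← map_pow ι', ← map_mul ι', sub_eq_zero]
      congr 1; ring)
    have h1 : t ^ (N + (m + N + j)) ∣ t ^ N * y := hdvd _ _ ⟨c, by
      rw [map_mul, map_pow, pow_add, mul_assoc]
      linear_combination h0⟩
    obtain ⟨b, hb⟩ := h1
    refine ⟨t ^ N * b, hu.pow (N + j) |>.mul_left_injective ?_⟩
    show x * ι t ^ (N + j) = ι (t ^ m * (t ^ N * b)) * ι t ^ (N + j)
    rw [show x * ι t ^ (N + j) = x * ι t ^ j * ι t ^ N by ring, hy, ← map_pow, ← map_mul, mul_comm,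
      hb, ← map_pow, ← map_mul]
    congr 1; ring
  · obtain ⟨k, b', hb'⟩ := hclear' a
    obtain ⟨b, c, hc⟩ := hdense b' (k + m)
    obtain ⟨u, hu⟩ := (hu.pow k).exists_right_inv
    refine ⟨ι b * u, -c, hu'.pow k |>.mul_left_injective ?_⟩
    show (f (ι b * u) - a) * ι' (ψ t) ^ k = ι' (ψ t ^ m * -c) * ι' (ψ t) ^ k
    have e : f u * ι' (ψ t) ^ k = 1 := by
      rw [← hfι, ← map_pow, ← map_mul, mul_comm, hu, map_one]
    rw [map_mul, hfι, sub_mul, mul_assoc, e, mul_one, hb', ← map_sub, ← map_pow ι', ← map_mul ι']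
    congr 1
    linear_combination -hc
  · obtain ⟨c₀, hc₀⟩ := ha 0
    rw [pow_zero, one_mul] at hc₀
    have h1 : ψ t ^ N * c₀ = 0 := hsep _ fun k => by
      obtain ⟨c, hc⟩ := ha k
      have h2 := hker (c₀ - ψ t ^ k * c) (by rw [map_sub, ← hc₀, ← hc, sub_self])
      exact ⟨ψ t ^ N * c, by linear_combination h2⟩
    refine (hu'.pow N).mul_left_eq_zero.mp ?_
    rw [hc₀, ← map_pow ι', ← map_mul ι', mul_comm, h1, map_zero]

end Groth.Agent.Elkik5
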