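import Mathlib
import Groth.Agent.CommAlg4.Elkik

/-!
Sections of smooth affine schemes over `A[1/t]` from sections over `Â[1/t]`.
-/

set_option autoImplicit false
set_option linter.style.haveILetI false

universe u

namespace Groth.Agent.Elkik5

open MvPolynomial

/-- A point with values in `Â[1/t]` of a smooth `A[1/t]`-algebra gives a point with values in `A[1/t]`. -/
theorem exists_section {A : Type u} [CommRing A] (t : A) [HenselianRing A (Ideal.span {t})]
    (hbd : ∃ N : ℕ, ∀ a : A, (∃ m : ℕ, t ^ m * a = 0) → t ^ N * a = 0)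
    (C : Type u) [CommRing C] [Algebra (Localization.Away t) C]
    [Algebra.Smooth (Localization.Away t) C]
    (σ : C →+* Localization.Away (algebraMap A (AdicCompletion (Ideal.span {t}) A) t))
    (hσ : σ.comp (algebraMap (Localization.Away t) C) =
      Localization.awayMap (algebraMap A (AdicCompletion (Ideal.span {t}) A)) t) :
    ∃ τ : C →+* Localization.Away t, τ.comp (algebraMap (Localization.Away t) C) = RingHom.id _ := by
  classical
  set Ah := AdicCompletion (Ideal.span {t}) A
  set L := Localization.Away t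
  set Lh := Localization.Away (algebraMap A Ah t)
  letI algAC : Algebra A C := ((algebraMap L C).comp (algebraMap A L)).toAlgebra
  haveI : IsScalarTower A L C := IsScalarTower.of_algebraMap_eq fun _ => rfl
  let jh : Ah →+* Lh := algebraMap Ah Lh
  have hσA : ∀ a : A, σ (algebraMap A C a) = jh (algebraMap A Ah a) := by
    intro a
    rw [IsScalarTower.algebraMap_apply A L C, ← RingHom.comp_apply, hσ]
    exact IsLocalization.map_eq _ a
  have htL : IsUnit (algebraMap A L t) := IsLocalization.Away.algebraMap_isUnit t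
  have htC : IsUnit (algebraMap A C t) := by
    rw [IsScalarTower.algebraMap_apply A L C]; exact htL.map _
  obtain ⟨n, π₀, hπ₀⟩ :=
    Algebra.FiniteType.iff_quotient_mvPolynomial''.mp (inferInstance : Algebra.FiniteType L C)
  have hden : ∀ z : Lh, ∃ (k : ℕ) (b : Ah), z * jh (algebraMap A Ah t) ^ k = jh b := by
    intro z
    obtain ⟨⟨b, _, k, rfl⟩, hb⟩ := IsLocalization.surj (Submonoid.powers (algebraMap A Ah t)) z
    exact ⟨k, b, by rw [← map_pow]; exact hb⟩
  choose k b hkb using fun i : Fin n => hden (σ (π₀ (X i)))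
  let c : Fin n → C := fun i => π₀ (X i) * algebraMap A C t ^ (k i)
  let π : MvPolynomial (Fin n) A →ₐ[A] C := aeval c
  let η : MvPolynomial (Fin n) A →ₐ[A] Ah := aeval b
  have hση : σ.comp π.toRingHom = jh.comp η.toRingHom := by
    refine MvPolynomial.ringHom_ext (fun a => ?_) (fun i => ?_)
    · simp only [RingHom.comp_apply, AlgHom.toRingHom_eq_coe, RingHom.coe_coe, π, η, aeval_C]
      exact hσA a
    · simp only [RingHom.comp_apply, AlgHom.toRingHom_eq_coe, RingHom.coe_coe, π, η, aeval_X, c,
        map_mul, map_pow, hσA]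
      exact hkb i
  have hπloc : ∀ z : C, ∃ (e : ℕ) (Q : MvPolynomial (Fin n) A),
      z * algebraMap A C t ^ e = π Q := by
    intro z
    obtain ⟨P, rfl⟩ := hπ₀ z
    induction P using MvPolynomial.induction_on with
    | C l =>
      obtain ⟨⟨a, _, e, rfl⟩, ha⟩ := IsLocalization.surj (Submonoid.powers t) l
      refine ⟨e, MvPolynomial.C a, ?_⟩
      rw [show π (MvPolynomial.C a) = algebraMap A C a from aeval_C _ _,
        show π₀ (MvPolynomial.C l) = algebraMap L C l from π₀.commutes l,
        IsScalarTower.algebraMap_apply A L C, IsScalarTower.algebraMap_apply A L C, ← map_pow,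
        ← map_mul, ← ha, map_pow]
    | add p q hp hq =>
      obtain ⟨e, Q, hQ⟩ := hp
      obtain ⟨e', Q', hQ'⟩ := hq
      refine ⟨e + e', Q * MvPolynomial.C (t ^ e') + Q' * MvPolynomial.C (t ^ e), ?_⟩
      simp only [map_add, map_mul, ← hQ, ← hQ', π, aeval_C, map_pow]
      ring
    | mul_X p i hp =>
      obtain ⟨e, Q, hQ⟩ := hp
      refine ⟨e + k i, Q * X i, ?_⟩
      rw [map_mul π, ← hQ, show π (X i) = c i from aeval_X _ _, map_mul]
      simp only [c]
      ring
  let I : Ideal (MvPolynomial (Fin n) A) := RingHom.ker π ⊓ RingHom.ker η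
  let B := MvPolynomial (Fin n) A ⧸ I
  let πB : B →ₐ[A] C := Ideal.Quotient.liftₐ I π fun x hx => hx.1
  let σB : B →ₐ[A] Ah := Ideal.Quotient.liftₐ I η fun x hx => hx.2
  letI algBC : Algebra B C := πB.toRingHom.toAlgebra
  haveI : IsScalarTower A B C := IsScalarTower.of_algebraMap_eq fun a => (πB.commutes a).symm
  let M := Algebra.algebraMapSubmonoid B (Submonoid.powers t)
  have hker : ∀ f : MvPolynomial (Fin n) A, π f = 0 →
      ∃ e : ℕ, f * MvPolynomial.C (t ^ e) ∈ I := by
    intro f hf
    have h0 : jh (η f) = 0 := by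
      have := RingHom.congr_fun hση f
      simp only [RingHom.comp_apply, AlgHom.toRingHom_eq_coe, RingHom.coe_coe] at this
      rw [← this, hf, map_zero]
    obtain ⟨⟨_, e, rfl⟩, he⟩ :=
      (IsLocalization.map_eq_zero_iff (Submonoid.powers (algebraMap A Ah t)) Lh _).mp h0
    refine ⟨e, ?_, ?_⟩
    · show π (f * _) = 0
      rw [map_mul, hf, zero_mul]
    · show η (f * _) = 0
      rw [map_mul, show η (MvPolynomial.C (t ^ e)) = algebraMap A Ah t ^ e by simp [η],
        mul_comm]
      exact he
  haveI hloc : IsLocalization M C := by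
    refine ⟨?_⟩
    refine ⟨?_, ?_, ?_⟩
    · rintro ⟨_, _, ⟨e, rfl⟩, rfl⟩
      show IsUnit (algebraMap B C (algebraMap A B (t ^ e)))
      rw [← IsScalarTower.algebraMap_apply, map_pow]
      exact htC.pow e
    · intro z
      obtain ⟨e, Q, hQ⟩ := hπloc z
      refine ⟨⟨Ideal.Quotient.mk I Q, ⟨algebraMap A B (t ^ e), _, ⟨e, rfl⟩, rfl⟩⟩, ?_⟩
      show z * algebraMap B C (algebraMap A B (t ^ e)) = πB (Ideal.Quotient.mk I Q)
      rw [← IsScalarTower.algebraMap_apply, map_pow, hQ]
      rfl
    · intro x y hxy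
      obtain ⟨f, rfl⟩ := Ideal.Quotient.mk_surjective x
      obtain ⟨g, rfl⟩ := Ideal.Quotient.mk_surjective y
      have h1 : π (f - g) = 0 := by rw [map_sub, sub_eq_zero]; exact hxy
      obtain ⟨e, he⟩ := hker _ h1
      refine ⟨⟨algebraMap A B (t ^ e), _, ⟨e, rfl⟩, rfl⟩, ?_⟩
      show Ideal.Quotient.mk I (MvPolynomial.C (t ^ e)) * Ideal.Quotient.mk I f =
        Ideal.Quotient.mk I (MvPolynomial.C (t ^ e)) * Ideal.Quotient.mk I g
      rw [← map_mul, ← map_mul, Ideal.Quotient.eq, ← mul_sub, mul_comm]
      exact he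
  let e₀ : C ≃ₐ[B] Localization M := IsLocalization.algEquiv M C (Localization M)
  have hcomp : (e₀ : C →+* Localization M).comp (algebraMap L C) =
      algebraMap L (Localization M) := by
    refine IsLocalization.ringHom_ext (Submonoid.powers t) (RingHom.ext fun a => ?_)
    simp only [RingHom.comp_apply, RingHom.coe_coe]
    rw [← IsScalarTower.algebraMap_apply A L C, ← IsScalarTower.algebraMap_apply A L (Localization M),
      IsScalarTower.algebraMap_apply A B C, IsScalarTower.algebraMap_apply A B (Localization M)]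
    exact e₀.commutes _
  let e₁ : C ≃ₐ[L] Localization M :=
    AlgEquiv.ofRingEquiv (f := (e₀ : C ≃+* Localization M)) fun l => RingHom.congr_fun hcomp l
  have hsm : Algebra.Smooth L (Localization M) := Algebra.Smooth.of_equiv e₁
  obtain ⟨τ, -⟩ := CommAlg4.Elkik.exists_algHom_congr hbd B hsm 0 σB
  let g : B →+* L := (algebraMap A L).comp τ.toRingHom
  have hg : ∀ y : M, IsUnit (g y) := by
    rintro ⟨_, _, ⟨e, rfl⟩, rfl⟩
    show IsUnit (algebraMap A L (τ (algebraMap A B (t ^ e))))
    rw [τ.commutes, Algebra.algebraMap_self, RingHom.id_apply, map_pow]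
    exact htL.pow e
  refine ⟨IsLocalization.lift (M := M) (S := C) hg, ?_⟩
  refine IsLocalization.ringHom_ext (Submonoid.powers t) (RingHom.ext fun a => ?_)
  simp only [RingHom.comp_apply, RingHom.id_apply]
  rw [← IsScalarTower.algebraMap_apply A L C, IsScalarTower.algebraMap_apply A B C,
    IsLocalization.lift_eq]
  show algebraMap A L (τ (algebraMap A B a)) = _
  rw [τ.commutes, Algebra.algebraMap_self, RingHom.id_apply]

end Groth.Agent.Elkik5
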